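/-
Groups all of whose p'-subgroups are abelian of exponent dividing p - 1: preliminaries.
-/
import Cfsg.Agent.Blocks.FongFullDefect
import Cfsg.Agent.Coprime.Fitting
import Cfsg.Agent.Coprime.Hall
import Cfsg.Agent.SolvStruct.ZJFusion
import Cfsg.Agent.PLocal.ActionStable
import Cfsg.Agent.Blocks.ItoDegrees

namespace Cfsg.Lib.SmallExp

open Subgroup
open scoped commutatorElement

universe u v

variable {p : ℕ} {G : Type u} [Group G] [Finite G]

/-- All `p'`-subgroups are abelian of exponent dividing `p - 1`. -/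
def Small (p : ℕ) (G : Type u) [Group G] : Prop :=
  ∀ H : Subgroup G, (Nat.card ↥H).Coprime p → IsMulCommutative ↥H ∧ ∀ x ∈ H, x ^ (p - 1) = 1

/-- `X / O_{p'}(X)` has a normal Sylow `p`-subgroup. -/
def PC (p : ℕ) (G : Type u) [Group G] : Prop :=
  ∃ Y N : Subgroup G, Y.Normal ∧ N.Normal ∧ Y ≤ N ∧ (Nat.card Y).Coprime p ∧ N.index.Coprime p ∧
    ∃ k, Y.relIndex N = p ^ k

theorem small_subgroup (h : Small p G) (X : Subgroup G) : Small p ↥X := by
  intro H hH
  obtain ⟨hc, he⟩ := h (H.map X.subtype) (by rwa [card_map_of_injective X.subtype_injective])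
  refine ⟨⟨⟨fun a b => Subtype.ext (Subtype.ext ?_)⟩⟩, fun x hx => Subtype.ext ?_⟩
  · have := congrArg Subtype.val (hc.is_comm.comm (⟨_, mem_map_of_mem X.subtype a.2⟩ : H.map X.subtype)
      ⟨_, mem_map_of_mem X.subtype b.2⟩)
    simpa using this
  · simpa using he _ (mem_map_of_mem X.subtype hx)

variable [hp : Fact p.Prime]

/-- A `p`-element. -/
def IsPEl (p : ℕ) {G : Type u} [Group G] (a : G) : Prop := IsPGroup p (zpowers a)

theorem isPEl_iff {a : G} : IsPEl p a ↔ ∃ k, a ^ p ^ k = 1 := by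
  constructor
  · intro h
    obtain ⟨k, hk⟩ := h ⟨a, mem_zpowers a⟩
    exact ⟨k, by simpa using congrArg Subtype.val hk⟩
  · rintro ⟨k, hk⟩ ⟨x, n, rfl⟩
    exact ⟨k, Subtype.ext (by
      simp only [SubmonoidClass.coe_pow, OneMemClass.coe_one]
      rw [← zpow_natCast, ← zpow_mul, mul_comm, zpow_mul, zpow_natCast, hk, one_zpow])⟩

theorem isPEl_of_mem {P : Subgroup G} (hP : IsPGroup p P) {a : G} (ha : a ∈ P) : IsPEl p a :=
  hP.to_le (zpowers_le.2 ha)

theorem eq_one_of_both {a : G} (h1 : IsPEl p a) (h2 : (orderOf a).Coprime p) : a = 1 := by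
  obtain ⟨k, hk⟩ := isPEl_iff.1 h1
  rw [← orderOf_eq_one_iff]
  exact Nat.eq_one_of_dvd_coprimes (h2.pow_right k) dvd_rfl (orderOf_dvd_of_pow_eq_one hk)

/-- In a normal subgroup of index prime to `p` lie all `p`-elements. -/
theorem mem_of_pEl {N : Subgroup G} [N.Normal] (hN : N.index.Coprime p) {a : G} (ha : IsPEl p a) :
    a ∈ N := by
  obtain ⟨k, hk⟩ := isPEl_iff.1 ha
  rw [← QuotientGroup.eq_one_iff, ← orderOf_eq_one_iff]
  refine Nat.eq_one_of_dvd_coprimes (hN.pow_right k) ?_ (orderOf_dvd_of_pow_eq_one ?_)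
  · rw [index_eq_card]; exact orderOf_dvd_natCard _
  · rw [← QuotientGroup.mk_pow, hk, QuotientGroup.mk_one]

theorem pc_core (h : PC p G) : ∃ N : Subgroup G, N.Normal ∧ N.index.Coprime p ∧
    Cfsg.pPrimeCore p G ⊓ N ≤ Cfsg.pPrimeCore p G ∧
    ∀ x ∈ N, (orderOf x).Coprime p → x ∈ Cfsg.pPrimeCore p G := by
  obtain ⟨Y, N, hY, hN, hYN, hYc, hNi, k, hk⟩ := h
  refine ⟨N, hN, hNi, inf_le_left, fun x hx hxc => ?_⟩
  haveI := hY
  refine (Cfsg.Lib.Components.le_pPrimeCore hYc) ?_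
  haveI : (Y.subgroupOf N).Normal := inferInstance
  have h1 : orderOf (QuotientGroup.mk ⟨x, hx⟩ : N ⧸ Y.subgroupOf N) ∣ p ^ k := by
    rw [← hk, relIndex, index_eq_card]
    exact orderOf_dvd_natCard _
  have h2 : orderOf (QuotientGroup.mk ⟨x, hx⟩ : N ⧸ Y.subgroupOf N) ∣ orderOf x := by
    have := orderOf_map_dvd (QuotientGroup.mk' (Y.subgroupOf N)) (⟨x, hx⟩ : N)
    rwa [Subgroup.orderOf_mk] at this
  have h3 := Nat.eq_one_of_dvd_coprimes (hxc.pow_right k) h2 h1
  rw [orderOf_eq_one_iff, QuotientGroup.eq_one_iff] at h3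
  exact mem_subgroupOf.1 h3

/-- The key property: `[A, R] ≤ O_{p'}` for a `p'`-subgroup `A` normalised by a `p`-element. -/
theorem pc_comm (h : PC p G) {A : Subgroup G} (hA : (Nat.card A).Coprime p) {r : G} (hr : IsPEl p r)
    (hrA : ∀ a ∈ A, r * a * r⁻¹ ∈ A) {a : G} (ha : a ∈ A) :
    a⁻¹ * (r * a * r⁻¹) ∈ Cfsg.pPrimeCore p G := by
  obtain ⟨N, hN, hNi, -, hmem⟩ := pc_core h
  have hrN := mem_of_pEl hNi hr
  refine hmem _ ?_ (Nat.Coprime.coprime_dvd_left ?_ hA)
  · rw [show a⁻¹ * (r * a * r⁻¹) = (a⁻¹ * r * a) * r⁻¹ by group]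
    exact mul_mem (by simpa using hN.conj_mem r hrN a⁻¹) (inv_mem hrN)
  · have hm : a⁻¹ * (r * a * r⁻¹) ∈ A := mul_mem (inv_mem ha) (hrA a ha)
    rw [← Subgroup.orderOf_mk _ hm]
    exact orderOf_dvd_natCard _

theorem pc_of_surjective {H : Type v} [Group H] [Finite H] (f : G →* H) (hf : Function.Surjective f)
    (h : PC p G) : PC p H := by
  obtain ⟨Y, N, hY, hN, hYN, hYc, hNi, k, hk⟩ := h
  refine ⟨Y.map f, N.map f, hY.map f hf, hN.map f hf, map_mono hYN,
    Nat.Coprime.coprime_dvd_left (card_map_dvd Y f) hYc,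
    Nat.Coprime.coprime_dvd_left (index_map_dvd (H := N) hf) hNi, ?_⟩
  have h1 : Nat.card (Y.map f) * (Y.map f).relIndex (N.map f) = Nat.card (N.map f) := by
    rw [← relIndex_bot_left, ← relIndex_bot_left, relIndex_mul_relIndex _ _ _ bot_le (map_mono hYN)]
  have h2 : (Y.map f).relIndex (N.map f) ∣ p ^ k := by
    rw [← hk, ← relIndex_comap, comap_map_eq]
    exact relIndex_dvd_of_le_left _ le_sup_left
  obtain ⟨j, -, hj⟩ := (Nat.dvd_prime_pow hp.out).1 h2
  exact ⟨j, hj⟩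

theorem pc_subgroup (h : PC p G) (X : Subgroup G) : PC p ↥X := by
  obtain ⟨Y, N, hY, hN, hYN, hYc, hNi, k, hk⟩ := h
  refine ⟨Y.subgroupOf X, N.subgroupOf X, inferInstance, inferInstance,
    fun x hx => hYN (mem_subgroupOf.1 hx), ?_, ?_, ?_⟩
  · exact Nat.Coprime.coprime_dvd_left (card_comap_dvd_of_injective Y X.subtype X.subtype_injective) hYc
  · haveI := hN
    exact Nat.Coprime.coprime_dvd_left (N.relIndex_dvd_index_of_normal X) hNi
  · have h2 : (Y.subgroupOf X).relIndex (N.subgroupOf X) ∣ p ^ k := by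
      haveI := hY
      rw [← hk, subgroupOf, relIndex_comap]
      have h3 : (Y.subgroupOf N).relIndex (((N.subgroupOf X).map X.subtype).subgroupOf N) ∣
          (Y.subgroupOf N).index := relIndex_dvd_index_of_normal _ _
      have hle : (N.subgroupOf X).map X.subtype ≤ N := map_comap_le _ _
      rwa [subgroupOf, subgroupOf, relIndex_comap, map_comap_eq_self (by rwa [range_subtype])] at h3
    obtain ⟨j, -, hj⟩ := (Nat.dvd_prime_pow hp.out).1 h2
    exact ⟨j, hj⟩

theorem pc_of_quotient {Y₀ : Subgroup G} [Y₀.Normal] (hY₀ : (Nat.card Y₀).Coprime p)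
    (h : PC p (G ⧸ Y₀)) : PC p G := by
  obtain ⟨Y, N, hY, hN, hYN, hYc, hNi, k, hk⟩ := h
  refine ⟨Y.comap (QuotientGroup.mk' Y₀), N.comap (QuotientGroup.mk' Y₀), hY.comap _, hN.comap _,
    comap_mono hYN, ?_, ?_, k, ?_⟩
  · have h1 : Nat.card (Y.comap (QuotientGroup.mk' Y₀)) = Nat.card Y₀ * Nat.card Y := by
      rw [← relIndex_bot_left, ← relIndex_mul_relIndex (⊥ : Subgroup G) Y₀ _ bot_le
        (by simpa using MonoidHom.ker_le_comap (QuotientGroup.mk' Y₀) Y), relIndex_bot_left]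
      congr 1
      have e := relIndex_comap (⊥ : Subgroup (G ⧸ Y₀)) (QuotientGroup.mk' Y₀)
        (Y.comap (QuotientGroup.mk' Y₀))
      rwa [MonoidHom.comap_bot, QuotientGroup.ker_mk',
        map_comap_eq_self_of_surjective (QuotientGroup.mk'_surjective Y₀), relIndex_bot_left] at e
    rw [h1]
    exact hY₀.mul_left hYc
  · rwa [index_comap_of_surjective _ (QuotientGroup.mk'_surjective Y₀)]
  · rw [relIndex_comap, map_comap_eq_self_of_surjective (QuotientGroup.mk'_surjective Y₀), hk]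

/-- A normal `p'`-subgroup does not matter. -/
theorem pc_of_cover {Y₀ U : Subgroup G} [Y₀.Normal] (hY₀ : (Nat.card Y₀).Coprime p)
    (hU : Y₀ ⊔ U = ⊤) (h : PC p ↥U) : PC p G := by
  refine pc_of_quotient hY₀ (pc_of_surjective ((QuotientGroup.mk' Y₀).comp U.subtype) ?_ h)
  rw [← MonoidHom.range_eq_top, MonoidHom.range_comp, range_subtype]
  have := congrArg (Subgroup.map (QuotientGroup.mk' Y₀)) hU
  rwa [Subgroup.map_sup, QuotientGroup.map_mk'_self, bot_sup_eq,
    map_top_of_surjective _ (QuotientGroup.mk'_surjective Y₀)] at this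

theorem small_two_abelian (hp2 : p ≠ 2) (h : Small p G) (T : Sylow 2 G) : IsMulCommutative T := by
  obtain ⟨n, hn⟩ := IsPGroup.iff_card.1 T.isPGroup'
  refine (h T ?_).1
  rw [hn]
  exact Nat.Coprime.pow_left n ((Nat.coprime_primes Nat.prime_two hp.out).2 (Ne.symm hp2))

theorem small_not_involves (hp2 : p ≠ 2) (h : Small p G) :
    ¬ Cfsg.Involves ↥(Cfsg.qd p) G := by
  refine Cfsg.Lib.SolvStruct.not_involves_qd ?_
  rintro ⟨H, K, hK, ⟨e⟩⟩
  exact Cfsg.Lib.ActionStable.noSection_of_abelian hp2 (small_two_abelian hp2 h) H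
    (e.toMonoidHom.comp (QuotientGroup.mk' (K.subgroupOf H)))
    (e.surjective.comp (QuotientGroup.mk'_surjective _))

/-- Abelianness of a `p'`-subgroup. -/
theorem small_comm (h : Small p G) {H : Subgroup G} (hH : (Nat.card H).Coprime p) {a b : G}
    (ha : a ∈ H) (hb : b ∈ H) : a * b = b * a :=
  congrArg Subtype.val ((h H hH).1.is_comm.comm (⟨a, ha⟩ : H) ⟨b, hb⟩)

end Cfsg.Lib.SmallExp
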