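/-
The solvable groups with small p'-subgroups: Hall subgroups and the ZJ factorisation.
-/
import Cfsg.Agent.SmallExp.Basic

namespace Cfsg.Lib.SmallExp

open Subgroup

universe u

variable {p : ℕ} [hp : Fact p.Prime] {H : Type u} [Group H] [Finite H] [Group.IsSolvable H]

theorem piHall_of_max {K : Subgroup H} (hK : (Nat.card K).Coprime p)
    (hmax : ∀ K' : Subgroup H, (Nat.card K').Coprime p → K ≤ K' → K' = K) :
    Cfsg.IsPiHall {q : ℕ | q ≠ p} K := by
  have hπ : ∀ q : ℕ, q.Prime → q ∣ Nat.card K → q ∈ ({q : ℕ | q ≠ p} : Set ℕ) := by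
    rintro q - hd (rfl : q = p)
    exact (hp.out.coprime_iff_not_dvd.1 hK.symm) hd
  obtain ⟨K', hK', hle⟩ := Cfsg.Lib.Coprime.exists_piHall_ge (G := H) hπ
  have hc : (Nat.card K').Coprime p :=
    (hp.out.coprime_iff_not_dvd.2 fun hd => hK'.1 p hp.out hd rfl).symm
  rwa [hmax K' hc hle] at hK'

theorem index_of_piHall {K : Subgroup H} (hK : Cfsg.IsPiHall {q : ℕ | q ≠ p} K) :
    ∃ j, K.index = p ^ j := by
  refine ⟨K.index.primeFactorsList.length,
    Nat.eq_prime_pow_of_unique_prime_dvd FiniteIndex.index_ne_zero fun {d} hd hdvd => ?_⟩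
  by_contra hne
  exact hK.2 d hd hne hdvd

theorem conj_of_max {K K' : Subgroup H} (hK : (Nat.card K).Coprime p)
    (hmax : ∀ X : Subgroup H, (Nat.card X).Coprime p → K ≤ X → X = K)
    (hK' : (Nat.card K').Coprime p)
    (hmax' : ∀ X : Subgroup H, (Nat.card X).Coprime p → K' ≤ X → X = K') :
    ∃ g : H, K' = K.map (MulAut.conj g).toMonoidHom :=
  Cfsg.Lib.Coprime.piHall_conj (piHall_of_max hK hmax) (piHall_of_max hK' hmax')

/-- A solvable group with a Sylow `p`-subgroup inside the derived group. -/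
theorem pc_of_le_commutator (hs : Small p H) (T : Sylow p H)
    (hT : (T : Subgroup H) ≤ commutator H) : PC p H := by
  classical
  set O := Cfsg.pPrimeCore p H
  set Q := H ⧸ O
  have hO : Cfsg.pPrimeCore p Q = ⊥ := Cfsg.Lib.Coprime.pPrimeCore_quotient_eq_bot
  -- a Hall subgroup, abelian in the quotient
  obtain ⟨K, hK⟩ := Cfsg.Lib.Coprime.exists_piHall (G := H) {q : ℕ | q ≠ p}
  obtain ⟨j, hj⟩ := index_of_piHall hK
  have hKc : (Nat.card K).Coprime p :=
    (hp.out.coprime_iff_not_dvd.2 fun hd => hK.1 p hp.out hd rfl).symm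
  set f := QuotientGroup.mk' O with hf
  have hfs : Function.Surjective f := QuotientGroup.mk'_surjective O
  set V := Cfsg.pCore p Q with hV
  set g := (QuotientGroup.mk' V).comp f with hg
  have hgs : Function.Surjective g := (QuotientGroup.mk'_surjective V).comp hfs
  set R := Q ⧸ V
  have hKi : (K.map g).index ∣ p ^ j := hj ▸ index_map_dvd (H := K) hgs
  have hRV : Cfsg.pCore p R = ⊥ := by
    set M := (Cfsg.pCore p R).comap (QuotientGroup.mk' V) with hM
    have hMp : IsPGroup p M := (Cfsg.Lib.Components.isPGroup_pCore (G := R) p).comap_of_ker_isPGroup _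
      (by rw [QuotientGroup.ker_mk']; exact Cfsg.Lib.Components.isPGroup_pCore p)
    rw [← map_comap_eq_self_of_surjective (QuotientGroup.mk'_surjective V) (Cfsg.pCore p R),
      Subgroup.map_eq_bot_iff, QuotientGroup.ker_mk']
    exact Cfsg.Lib.Components.le_pCore hMp
  -- the Fitting subgroup of R is prime to p, hence in the image of K
  set F := Cfsg.fittingSubgroup R with hF
  have hFc : (Nat.card F).Coprime p := by
    haveI : (Cfsg.fittingSubgroup R).Normal := Cfsg.Lib.Components.fittingSubgroup_normal'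
    haveI hnil : Group.IsNilpotent F := Cfsg.Lib.Components.isNilpotent_fitting
    refine (hp.out.coprime_iff_not_dvd.2 fun hd => ?_).symm
    obtain ⟨S⟩ : Nonempty (Sylow p F) := inferInstance
    haveI hSn : (S : Subgroup F).Normal := inferInstance
    haveI : (S : Subgroup F).Characteristic := S.characteristic_of_normal hSn
    have hb : (S : Subgroup F).map F.subtype ≤ Cfsg.pCore p R :=
      Cfsg.Lib.Components.le_pCore (S.isPGroup'.map _)
    rw [hRV, le_bot_iff, map_eq_bot_iff_of_injective _ F.subtype_injective] at hb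
    exact S.ne_bot_of_dvd_card hd hb
  haveI hFn : F.Normal := Cfsg.Lib.Components.fittingSubgroup_normal'
  have hKg : (Nat.card (K.map g)).Coprime p := Nat.Coprime.coprime_dvd_left (card_map_dvd K g) hKc
  have hFK : F ≤ K.map g := by
    intro x hx
    have h1 : F.relIndex (F ⊔ K.map g) = F.relIndex (K.map g) := relIndex_sup_left ..
    have h2 : (K.map g).relIndex (F ⊔ K.map g) = 1 := by
      refine Nat.eq_one_of_dvd_coprimes (a := Nat.card ↥(F ⊔ K.map g))
        (b := p ^ j) (Nat.Coprime.pow_right j ?_) (relIndex_dvd_card _ _) ?_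
      · exact Nat.Coprime.coprime_dvd_left (Cfsg.Lib.Components.card_sup_dvd_mul F (K.map g))
          (hFc.mul_left hKg)
      · exact (relIndex_dvd_index_of_le le_sup_right).trans hKi
    exact (relIndex_eq_one.1 h2) (mem_sup_left hx)
  have hKcent : K.map g ≤ F := by
    refine le_trans ?_ (Cfsg.Lib.Coprime.centralizer_fitting_le (G := R))
    rintro _ ⟨a, ha, rfl⟩
    refine mem_centralizer_iff.2 fun b hb => ?_
    obtain ⟨c, hc, rfl⟩ := hFK hb
    rw [← map_mul, ← map_mul, small_comm hs hKc hc ha]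
  -- R ⧸ F is a perfect p-group
  have hFi : F.index ∣ p ^ j := (index_dvd_of_le hKcent).trans hKi
  have hRF : IsPGroup p (R ⧸ F) := by
    obtain ⟨i, -, hi⟩ := (Nat.dvd_prime_pow hp.out).1 hFi
    exact IsPGroup.of_card (n := i) (by rw [← index_eq_card, hi])
  set k := (QuotientGroup.mk' F).comp g with hk
  have hks : Function.Surjective k := (QuotientGroup.mk'_surjective F).comp hgs
  have hperf : commutator (R ⧸ F) = ⊤ := by
    have h1 : (T : Subgroup H).map k = ⊤ := by
      rw [← index_eq_one]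
      refine Nat.eq_one_of_dvd_coprimes (b := p ^ j) (Nat.Coprime.pow_right j ?_)
        (index_map_dvd (H := (T : Subgroup H)) hks) ?_
      · exact (hp.out.coprime_iff_not_dvd.2 T.not_dvd_index).symm
      · exact (index_dvd_card _).trans (by rw [← index_eq_card]; exact hFi)
    rw [eq_top_iff, ← h1]
    refine (map_mono hT).trans ?_
    rw [map_commutator_eq]
    exact commutator_mono le_top le_top
  have hsub : Subsingleton (R ⧸ F) := by
    by_contra hne
    haveI := not_subsingleton_iff_nontrivial.1 hne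
    haveI : Group.IsNilpotent (R ⧸ F) := hRF.isNilpotent
    exact (Group.IsSolvable.commutator_lt_top_of_nontrivial (R ⧸ F)).ne hperf
  have hFtop : F = ⊤ := by
    rw [← index_eq_one, index_eq_card]
    exact Nat.card_of_subsingleton (1 : R ⧸ F)
  have hRc : (Nat.card R).Coprime p := by
    rw [← card_top, ← hFtop]; exact hFc
  -- so V is the whole Sylow of the quotient
  obtain ⟨a, ha⟩ := IsPGroup.iff_card.1 (Cfsg.Lib.Components.isPGroup_pCore (G := Q) p)
  refine pc_of_quotient (Cfsg.Lib.Components.coprime_card_pPrimeCore p)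
    ⟨⊥, V, inferInstance, inferInstance, bot_le, by simp, by rwa [index_eq_card], a, ?_⟩
  rw [relIndex_bot_left, ha]

/-- `X = O_{p'}(X) N(Z(J(T)))`. -/
theorem zj_cover (hp2 : p ≠ 2) (hs : Small p H) (T : Sylow p H) :
    Cfsg.pPrimeCore p H ⊔ normalizer (Cfsg.centerThompsonOf p (T : Subgroup H) : Set H) = ⊤ := by
  classical
  set O := Cfsg.pPrimeCore p H
  set f := QuotientGroup.mk' O with hf
  have hfs : Function.Surjective f := QuotientGroup.mk'_surjective O
  have hOc : (Nat.card O).Coprime p := Cfsg.Lib.Components.coprime_card_pPrimeCore p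
  have hO : Cfsg.pPrimeCore p (H ⧸ O) = ⊥ := Cfsg.Lib.Coprime.pPrimeCore_quotient_eq_bot
  set T' : Sylow p (H ⧸ O) := T.mapSurjective hfs with hT'
  have hT'c : (T' : Subgroup (H ⧸ O)) = (T : Subgroup H).map f := rfl
  have hnqd : ¬ Cfsg.Involves ↥(Cfsg.qd p) (H ⧸ O) := fun h =>
    small_not_involves hp2 hs (Cfsg.Lib.QuadPair.involves_of_surjective hfs h)
  have hst : Cfsg.Lib.ZJ.Stable p (H ⧸ O) := Cfsg.Lib.ZJ.stable_of_isPStableOn
    fun B _ hB => Cfsg.Lib.QuadPair.stable_of_qd_free hp2 (Nat.card B) _ hnqd B hB rfl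
  have hn := Cfsg.Lib.ZJ.centerThompson_normal hp2 hst
    (Cfsg.Lib.Blocks.centralizer_pCore_le_of_isPSolvable p
      (Cfsg.Lib.Blocks.isPSolvable_of_solvable inferInstance) hO) T'
  set W := Cfsg.centerThompsonOf p (T : Subgroup H) with hW
  have hinj : Set.InjOn f (T : Subgroup H) := by
    intro a ha b hb hab
    have hm : a⁻¹ * b ∈ O := by
      rw [← QuotientGroup.ker_mk' O]
      simp [MonoidHom.mem_ker, ← hf, hab]
    have : a⁻¹ * b = 1 := by
      obtain ⟨k, hk⟩ := isPEl_iff.1 (isPEl_of_mem T.isPGroup' (mul_mem (inv_mem ha) hb))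
      refine eq_one_of_both (isPEl_iff.2 ⟨k, hk⟩) (Nat.Coprime.coprime_dvd_left ?_ hOc)
      rw [← Subgroup.orderOf_mk _ hm]
      exact orderOf_dvd_natCard _
    exact inv_mul_eq_one.1 this
  rw [hT'c, ← Cfsg.Lib.ZJ.centerThompsonOf_map_injOn hinj, ← hW] at hn
  haveI hM : (O ⊔ W).Normal := by
    have h := hn.comap f
    rwa [comap_map_eq, hf, QuotientGroup.ker_mk', sup_comm] at h
  have hWp : IsPGroup p W := T.isPGroup'.to_le (Cfsg.Lib.ZJ.centerThompson_le T)
  set Wm : Subgroup ↥(O ⊔ W) := W.subgroupOf (O ⊔ W) with hWm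
  have hWmp : IsPGroup p Wm := hWp.comap_subtype
  have hidx : ¬ p ∣ Wm.index := by
    rw [hWm]
    intro hd
    have hd' : p ∣ W.relIndex (O ⊔ W) := hd
    have h1 : W.relIndex (O ⊔ W) ∣ Nat.card O := by
      have hm : Nat.card W * W.relIndex (O ⊔ W) = Nat.card ↥(O ⊔ W) := by
        rw [← relIndex_bot_left W, ← relIndex_bot_left (O ⊔ W),
          relIndex_mul_relIndex _ _ _ bot_le le_sup_right]
      have := Cfsg.Lib.Components.card_sup_dvd_mul O W
      rw [← hm, mul_comm (Nat.card O)] at this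
      exact Nat.dvd_of_mul_dvd_mul_left Nat.card_pos this
    exact hp.out.coprime_iff_not_dvd.1 (Nat.Coprime.coprime_dvd_left (hd'.trans h1) hOc).symm dvd_rfl
  have hF := Sylow.normalizer_sup_eq_top (hWmp.toSylow hidx)
  rw [IsPGroup.toSylow_coe, hWm, map_subgroupOf_eq_of_le le_sup_right] at hF
  rw [eq_top_iff, ← hF]
  refine sup_le le_sup_right (sup_le le_sup_left ?_)
  exact le_trans le_normalizer le_sup_right

end Cfsg.Lib.SmallExp
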