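/-
Minimal counterexample to "all p'-subgroups abelian of exponent dividing p - 1 implies solvable":
the local structure.
-/
import Cfsg.Agent.SmallExp.Solvable
import Cfsg.Agent.Transfer.Abelian
import Cfsg.Agent.Transfer.Control

namespace Cfsg.Lib.SmallExp

open Subgroup
open Cfsg.Lib.Coprime (conjMap mem_conjMap card_conjMap conjMap_eq_self_iff)
open scoped commutatorElement

universe u

variable {p : ℕ} [hp : Fact p.Prime] {G : Type u} [Group G] [Finite G]

/-- The minimal counterexample. -/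
structure Hyp (p : ℕ) (G : Type u) [Group G] : Prop where
  two : p ≠ 2
  small : Small p G
  simple : IsSimpleGroup G
  nonsol : ¬ Group.IsSolvable G
  proper : ∀ X : Subgroup G, X ≠ ⊤ → Group.IsSolvable X

/-- `O_{p'}(X)` inside `G`. -/
def coreOf (p : ℕ) (X : Subgroup G) : Subgroup G := (Cfsg.pPrimeCore p ↥X).map X.subtype

theorem coreOf_le (X : Subgroup G) : coreOf p X ≤ X := map_subtype_le _

theorem coprime_coreOf (X : Subgroup G) : (Nat.card (coreOf p X)).Coprime p := by
  rw [coreOf, card_map_of_injective X.subtype_injective]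
  exact Cfsg.Lib.Components.coprime_card_pPrimeCore p

theorem le_normalizer_coreOf (X : Subgroup G) : X ≤ normalizer (coreOf p X : Set G) := by
  have key : ∀ x ∈ X, ∀ y ∈ coreOf p X, x * y * x⁻¹ ∈ coreOf p X := by
    rintro x hx _ ⟨y, hy, rfl⟩
    exact ⟨⟨x, hx⟩ * y * (⟨x, hx⟩ : X)⁻¹,
      (inferInstance : (Cfsg.pPrimeCore p ↥X).Normal).conj_mem y hy _, by simp⟩
  exact fun x hx => Cfsg.Lib.Coprime.mem_normalizer_of_conj_mem (key x hx)
    fun y hy => by simpa using key x⁻¹ (inv_mem hx) y hy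

theorem isPEl_subtype {X : Subgroup G} {a : X} : IsPEl p a ↔ IsPEl p (a : G) := by
  simp only [isPEl_iff, ← SubmonoidClass.coe_pow, OneMemClass.coe_eq_one]

theorem card_sup_coprime {A B : Subgroup G} (hA : (Nat.card A).Coprime p)
    (hB : (Nat.card B).Coprime p) (hBA : B ≤ normalizer (A : Set G)) :
    (Nat.card ↥(A ⊔ B)).Coprime p := by
  have hle : A ⊔ B ≤ normalizer (A : Set G) := sup_le le_normalizer hBA
  haveI : (A.subgroupOf (A ⊔ B)).Normal :=
    (normal_subgroupOf_iff_le_normalizer le_sup_left).2 hle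
  have h := Cfsg.Lib.Components.card_sup_dvd_mul (A.subgroupOf (A ⊔ B)) (B.subgroupOf (A ⊔ B))
  rw [← subgroupOf_sup le_sup_left le_sup_right, subgroupOf_self, card_top,
    Nat.card_congr (subgroupOfEquivOfLe (le_sup_left : A ≤ A ⊔ B)).toEquiv,
    Nat.card_congr (subgroupOfEquivOfLe (le_sup_right : B ≤ A ⊔ B)).toEquiv] at h
  exact Nat.Coprime.coprime_dvd_left h (hA.mul_left hB)

theorem coprime_zpowers {y : G} (h : (orderOf y).Coprime p) :
    (Nat.card (zpowers y)).Coprime p := by
  rwa [Nat.card_zpowers]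

theorem coprime_order_of_mem {A : Subgroup G} (hA : (Nat.card A).Coprime p) {y : G} (hy : y ∈ A) :
    (orderOf y).Coprime p :=
  Nat.Coprime.coprime_dvd_left (by rw [← Subgroup.orderOf_mk y hy]; exact orderOf_dvd_natCard _) hA

theorem not_pDvd_of_coprime {A : Subgroup G} (hA : (Nat.card A).Coprime p) : ¬ p ∣ Nat.card A :=
  hp.out.coprime_iff_not_dvd.1 hA.symm

namespace Hyp

variable (h : Hyp p G)
include h

theorem not_comm : ¬ IsMulCommutative G := fun hc =>
  h.nonsol (Group.isSolvable_of_comm fun a b => hc.is_comm.comm a b)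

theorem not_pPrime : ¬ (Nat.card G).Coprime p := fun hc => by
  refine h.not_comm ⟨⟨fun a b => ?_⟩⟩
  exact small_comm h.small (H := ⊤) (by rwa [card_top]) (mem_top a) (mem_top b)

theorem not_pGroup : ¬ IsPGroup p G := fun hc => h.nonsol (by
  haveI := hc.isNilpotent
  infer_instance)

theorem commutator_eq_top : commutator G = ⊤ := by
  haveI := h.simple
  rcases (inferInstance : (commutator G).Normal).eq_bot_or_eq_top with hb | ht
  · exact absurd (by
      refine ⟨⟨fun a b => ?_⟩⟩
      have hm : ⁅a, b⁆ ∈ commutator G := commutator_mem_commutator (mem_top a) (mem_top b)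
      rw [hb, mem_bot] at hm
      exact commutatorElement_eq_one_iff_mul_comm.1 hm) h.not_comm
  · exact ht

theorem normalizer_ne_top {A : Subgroup G} (hA : A ≠ ⊥) (hA' : A ≠ ⊤) :
    normalizer (A : Set G) ≠ ⊤ := by
  intro ht
  haveI := h.simple
  rcases (normalizer_eq_top_iff.1 ht).eq_bot_or_eq_top with hb | hb
  exacts [hA hb, hA' hb]

theorem centralizer_ne_top {y : G} (hy : y ≠ 1) : centralizer ({y} : Set G) ≠ ⊤ := by
  intro ht
  haveI := h.simple
  have hz : y ∈ center G := Subgroup.mem_center_iff.2 fun g =>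
    (mem_centralizer_singleton_iff.1 (ht ▸ mem_top g : g ∈ centralizer ({y} : Set G)))
  rcases (inferInstance : (center G).Normal).eq_bot_or_eq_top with hb | hb
  · exact hy (mem_bot.1 (hb ▸ hz))
  · exact h.not_comm ⟨⟨fun a b => (Subgroup.mem_center_iff.1 (hb ▸ mem_top b : b ∈ center G) a)⟩⟩

theorem zj_ne_bot {T : Subgroup G} (hT : IsPGroup p T) (h1 : T ≠ ⊥) :
    Cfsg.centerThompsonOf p T ≠ ⊥ :=
  Cfsg.Lib.Thompson.center_ne_bot (hT.to_le (Cfsg.Lib.Thompson.thompsonSubgroupOf_le (p := p) _))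
    (Cfsg.Lib.Thompson.thompsonSubgroupOf_ne_bot hT h1)

theorem zj_normalizer_ne_top {T : Subgroup G} (hT : IsPGroup p T) (h1 : T ≠ ⊥) :
    normalizer (Cfsg.centerThompsonOf p T : Set G) ≠ ⊤ :=
  h.normalizer_ne_top (h.zj_ne_bot hT h1) fun ht => h.not_pGroup (by
    have hle : Cfsg.centerThompsonOf p T ≤ T :=
      inf_le_left.trans (Cfsg.Lib.Thompson.thompsonSubgroupOf_le (p := p) T)
    have := hT.to_le hle
    rw [ht] at this
    exact this.of_equiv topEquiv)

theorem sylow_ne_bot (P : Sylow p G) : (P : Subgroup G) ≠ ⊥ :=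
  P.ne_bot_of_dvd_card (not_not.1 fun hd => h.not_pPrime (hp.out.coprime_iff_not_dvd.2 hd).symm)

/-- Transfer into the normalizer of `Z(J(P))`. -/
theorem sylow_le_zj_commutator (P : Sylow p G)
    (hPL : (P : Subgroup G) ≤ normalizer (Cfsg.centerThompsonOf p (P : Subgroup G) : Set G)) :
    ((P.subtype hPL : Sylow p _) : Subgroup _) ≤
      commutator ↥(normalizer (Cfsg.centerThompsonOf p (P : Subgroup G) : Set G)) := by
  set L := normalizer (Cfsg.centerThompsonOf p (P : Subgroup G) : Set G) with hL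
  have hfoc : (P : Subgroup G) ≤ ⁅L, L⁆ := by
    intro x hx
    have hx' : x ∈ focalSubgroup (P : Subgroup G) := by
      rw [← Subgroup.commutator_inf_eq_focalSubgroup, h.commutator_eq_top, top_inf_eq]; exact hx
    rw [focalSubgroup_def] at hx'
    refine (closure_le _).2 ?_ hx'
    rintro _ ⟨hmem, a, ha, g, rfl⟩
    -- g a⁻¹ g⁻¹ lies in P
    have hga : g * a⁻¹ * g⁻¹ ∈ (P : Subgroup G) := by
      have : g * a⁻¹ * g⁻¹ = a⁻¹ * ⁅a, g⁆ := by rw [commutatorElement_def]; group
      rw [this]; exact mul_mem (inv_mem ha) hmem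
    obtain ⟨c, hc, hcg⟩ := Cfsg.Lib.SolvStruct.exists_mem_normalizer_zj h.two
      (small_not_involves h.two h.small) P (A := {a⁻¹})
      (Set.singleton_subset_iff.2 (inv_mem ha)) (g := g) (fun b hb => by
        rw [Set.mem_singleton_iff] at hb; rw [hb]; exact hga)
    have he := hcg a⁻¹ rfl
    have : ⁅a, g⁆ = ⁅a, c⁆ := by
      rw [commutatorElement_def, commutatorElement_def, mul_assoc a g, mul_assoc a _ g⁻¹,
        mul_assoc a c, mul_assoc a _ c⁻¹, he]
    rw [SetLike.mem_coe, this]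
    exact commutator_mem_commutator (hPL ha) hc
  intro x hx
  have hx' : (x : G) ∈ ⁅L, L⁆ := hfoc hx
  rw [← map_subtype_commutator] at hx'
  obtain ⟨y, hy, hyx⟩ := hx'
  rwa [← Subtype.ext hyx]

/-- The normalizer of `Z(J(P))` for a full Sylow subgroup. -/
theorem pc_zj (P : Sylow p G) :
    PC p ↥(normalizer (Cfsg.centerThompsonOf p (P : Subgroup G) : Set G)) := by
  haveI : Group.IsSolvable ↥(normalizer (Cfsg.centerThompsonOf p (P : Subgroup G) : Set G)) :=
    h.proper _ (h.zj_normalizer_ne_top P.isPGroup' (h.sylow_ne_bot P))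
  exact pc_of_le_commutator (small_subgroup h.small _) _
    (h.sylow_le_zj_commutator P (Cfsg.Lib.ZJ.sylow_le_normalizer_centerThompson P))

/-- A Sylow `p`-subgroup is not self-normalizing. -/
theorem normalizer_sylow_ne (P : Sylow p G) :
    ∃ g ∈ normalizer ((P : Subgroup G) : Set G), g ∉ (P : Subgroup G) := by
  by_contra! hno
  set L := normalizer (Cfsg.centerThompsonOf p (P : Subgroup G) : Set G) with hL
  have hPL : (P : Subgroup G) ≤ L := Cfsg.Lib.ZJ.sylow_le_normalizer_centerThompson P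
  haveI : Group.IsSolvable L := h.proper L (h.zj_normalizer_ne_top P.isPGroup' (h.sylow_ne_bot P))
  obtain ⟨Y, N, hY, hN, hYN, hYc, hNi, k, hk⟩ := h.pc_zj P
  haveI := hY
  haveI := hN
  set T : Sylow p L := P.subtype hPL with hT
  have hT' : (T : Subgroup L) ≤ commutator L := h.sylow_le_zj_commutator P hPL
  have hTN : (T : Subgroup L) ≤ N := fun x hx => mem_of_pEl hNi (isPEl_of_mem T.isPGroup' hx)
  have hNT : N = Y ⊔ (T : Subgroup L) := by
    refine le_antisymm ?_ (sup_le hYN hTN)
    rw [← relIndex_eq_one]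
    refine Nat.eq_one_of_dvd_coprimes (a := p ^ k) (b := (T : Subgroup L).index)
      (Nat.Coprime.pow_left k (hp.out.coprime_iff_not_dvd.2 T.not_dvd_index)) ?_ ?_
    · exact hk ▸ relIndex_dvd_of_le_left N le_sup_left
    · exact (relIndex_dvd_of_le_left N le_sup_right).trans (relIndex_dvd_index_of_le hTN)
  have hF := Sylow.normalizer_sup_eq_top (T.subtype hTN)
  rw [show ((T.subtype hTN : Sylow p N) : Subgroup N) = (T : Subgroup L).subgroupOf N from rfl,
    map_subgroupOf_eq_of_le hTN] at hF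
  have hNT' : normalizer ((T : Subgroup L) : Set L) ≤ (T : Subgroup L) := by
    intro x hx
    refine mem_subgroupOf.2 (hno _ ?_)
    refine Cfsg.Lib.Coprime.mem_normalizer_of_conj_mem (fun y hy => ?_) (fun y hy => ?_)
    · exact mem_subgroupOf.1 ((mem_normalizer_iff.1 hx ⟨y, hPL hy⟩).1 (mem_subgroupOf.2 hy))
    · exact mem_subgroupOf.1 ((mem_normalizer_iff''.1 hx ⟨y, hPL hy⟩).1 (mem_subgroupOf.2 hy))
  have htop : Y ⊔ (T : Subgroup L) = ⊤ := by
    rw [eq_top_iff, ← hF]
    exact sup_le (hNT'.trans le_sup_right) hNT.le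
  -- the quotient by Y is a perfect p-group
  set f := QuotientGroup.mk' Y with hf
  have hm : (T : Subgroup L).map f = ⊤ := by
    have := congrArg (Subgroup.map f) htop
    rwa [Subgroup.map_sup, hf, QuotientGroup.map_mk'_self, bot_sup_eq,
      map_top_of_surjective _ (QuotientGroup.mk'_surjective Y)] at this
  have hperf : commutator (L ⧸ Y) = ⊤ := by
    rw [eq_top_iff, ← hm]
    refine (map_mono hT').trans ?_
    rw [map_commutator_eq]
    exact commutator_mono le_top le_top
  rcases subsingleton_or_nontrivial (L ⧸ Y) with hs | hs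
  · have hTY : (T : Subgroup L) ≤ Y := fun x _ =>
      (QuotientGroup.eq_one_iff x).1 (Subsingleton.elim _ _)
    refine h.sylow_ne_bot P ((eq_bot_iff_forall _).2 fun x hx => ?_)
    exact congrArg Subtype.val (eq_one_of_both (isPEl_of_mem T.isPGroup'
      (mem_subgroupOf.2 hx : (⟨x, hPL hx⟩ : L) ∈ (T : Subgroup L)))
      (coprime_order_of_mem hYc (hTY (mem_subgroupOf.2 hx))))
  · exact (Group.IsSolvable.commutator_lt_top_of_nontrivial (L ⧸ Y)).ne hperf

/-- Every proper subgroup has a normal Sylow `p`-subgroup modulo its `p'`-core. -/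
theorem pc_proper : ∀ X : Subgroup G, X ≠ ⊤ → PC p ↥X := by
  suffices H : ∀ (n : ℕ) (X : Subgroup G), (Nat.card G).factorization p - (Nat.card X).factorization p = n →
      X ≠ ⊤ → PC p ↥X from fun X => H _ X rfl
  intro n
  induction n using Nat.strong_induction_on with
  | _ n ih =>
  intro X hn hX
  haveI := h.proper X hX
  obtain ⟨T⟩ : Nonempty (Sylow p X) := inferInstance
  by_cases hd : p ∣ Nat.card X
  swap
  · exact ⟨⊤, ⊤, inferInstance, inferInstance, le_rfl,
      by rw [card_top]; exact (hp.out.coprime_iff_not_dvd.2 hd).symm, by simp, 0, by simp⟩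
  set TG := (T : Subgroup X).map X.subtype with hTG
  have hTGp : IsPGroup p TG := T.isPGroup'.map _
  have hTG1 : TG ≠ ⊥ := by
    rw [Ne, hTG, map_eq_bot_iff_of_injective _ X.subtype_injective]
    exact T.ne_bot_of_dvd_card hd
  set W := Cfsg.centerThompsonOf p TG with hW
  have hWmap : (Cfsg.centerThompsonOf p (T : Subgroup X)).map X.subtype = W :=
    Cfsg.Lib.ZJ.centerThompsonOf_map_injOn X.subtype_injective.injOn
  set X' := normalizer (W : Set G) with hX'
  have hX'top : X' ≠ ⊤ := h.zj_normalizer_ne_top hTGp hTG1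
  set U := normalizer (Cfsg.centerThompsonOf p (T : Subgroup X) : Set X) with hU
  have hUX' : U.map X.subtype ≤ X' := by
    rw [hX', ← hWmap, hU]
    exact le_normalizer_map _
  -- it suffices to treat X'
  suffices hpc : PC p ↥X' by
    refine pc_of_cover (Cfsg.Lib.Components.coprime_card_pPrimeCore p)
      (zj_cover h.two (small_subgroup h.small X) T) ?_
    have h1 := pc_subgroup hpc ((U.map X.subtype).subgroupOf X')
    exact pc_of_surjective ((subgroupOfEquivOfLe hUX').trans
      (U.equivMapOfInjective X.subtype X.subtype_injective).symm).toMonoidHom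
      ((subgroupOfEquivOfLe hUX').trans
      (U.equivMapOfInjective X.subtype X.subtype_injective).symm).surjective h1
  have hTc : Nat.card TG = p ^ (Nat.card X).factorization p := by
    rw [hTG, card_map_of_injective X.subtype_injective, T.card_eq_multiplicity]
  by_cases hfull : (Nat.card X).factorization p = (Nat.card G).factorization p
  · have hTS : Nat.card TG = p ^ (Nat.card G).factorization p := hfull ▸ hTc
    exact hX' ▸ h.pc_zj (Sylow.ofCard TG hTS)
  have hle : (Nat.card X).factorization p ≤ (Nat.card G).factorization p :=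
    (Nat.factorization_le_iff_dvd Nat.card_pos.ne' Nat.card_pos.ne').2 X.card_subgroup_dvd_card p
  have hNX : normalizer (TG : Set G) ≤ X' := by
    intro g hg
    rw [hX', ← conjMap_eq_self_iff, hW, conjMap,
      Cfsg.Lib.ZJ.centerThompsonOf_map_injOn (MulAut.conj g).injective.injOn]
    exact congrArg (Cfsg.centerThompsonOf p) (conjMap_eq_self_iff.2 hg)
  have hgrow : p ^ ((Nat.card X).factorization p + 1) ∣ Nat.card X' := by
    refine (Sylow.prime_pow_dvd_card_normalizer ?_ hTc).trans (card_dvd_of_le hNX)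
    exact (pow_dvd_pow p (by omega)).trans (Nat.ordProj_dvd _ p)
  have h2 : (Nat.card X).factorization p + 1 ≤ (Nat.card X').factorization p :=
    (hp.out.pow_dvd_iff_le_factorization Nat.card_pos.ne').1 hgrow
  exact ih _ (by omega) X' rfl hX'top

theorem core_comm {X A : Subgroup G} (hX : X ≠ ⊤) (hAX : A ≤ X) (hA : (Nat.card A).Coprime p)
    {r : G} (hr : r ∈ X) (hrp : IsPEl p r) (hrA : ∀ a ∈ A, r * a * r⁻¹ ∈ A) {a : G} (ha : a ∈ A) :
    a⁻¹ * (r * a * r⁻¹) ∈ coreOf p X := by
  refine ⟨(⟨a, hAX ha⟩ : X)⁻¹ * (⟨r, hr⟩ * ⟨a, hAX ha⟩ * (⟨r, hr⟩ : X)⁻¹), ?_, by simp⟩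
  refine pc_comm (h.pc_proper X hX) (A := A.subgroupOf X) ?_ (isPEl_subtype.2 hrp)
    (fun b hb => ?_) (mem_subgroupOf.2 ha)
  · rwa [Nat.card_congr (subgroupOfEquivOfLe hAX).toEquiv]
  · exact mem_subgroupOf.2 (by simpa using hrA _ (mem_subgroupOf.1 hb))

/-- A `p'`-subgroup of `X` with a fixed-point-free `p`-group acting lies in the core of `X`. -/
theorem le_core {X A R : Subgroup G} (hX : X ≠ ⊤) (hAX : A ≤ X) (hA : (Nat.card A).Coprime p)
    (hR : IsPGroup p R) (hRX : R ≤ X) (hRA : R ≤ normalizer (A : Set G))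
    (hfix : A ⊓ centralizer (R : Set G) = ⊥) : A ≤ coreOf p X := by
  intro a ha
  set B := A ⊓ coreOf p X with hB
  have hn : ∀ r ∈ R, ∀ x ∈ A, r * x * r⁻¹ ∈ A := fun r hr x hx =>
    (mem_normalizer_iff.1 (hRA hr) x).1 hx
  let Ω := {x : G // x ∈ A ∧ a⁻¹ * x ∈ B}
  letI : MulAction R Ω :=
    { smul := fun r x => ⟨r * x.1 * (r : G)⁻¹, hn r r.2 x.1 x.2.1, by
        rw [show a⁻¹ * ((r : G) * x.1 * (r : G)⁻¹) =
          (a⁻¹ * ((r : G) * a * (r : G)⁻¹)) * ((r : G) * (a⁻¹ * x.1) * (r : G)⁻¹) by group]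
        refine B.mul_mem ⟨A.mul_mem (A.inv_mem ha) (hn r r.2 a ha), ?_⟩ ⟨hn r r.2 _ x.2.2.1, ?_⟩
        · exact h.core_comm hX hAX hA (hRX r.2) (isPEl_of_mem hR r.2) (hn r r.2) ha
        · exact (mem_normalizer_iff.1 (le_normalizer_coreOf X (hRX r.2)) _).1 x.2.2.2⟩
      one_smul := fun x => Subtype.ext (show ((1 : R) : G) * x.1 * ((1 : R) : G)⁻¹ = x.1 by simp)
      mul_smul := fun r s x => Subtype.ext
        (show ((r * s : R) : G) * x.1 * ((r * s : R) : G)⁻¹ =
          (r : G) * ((s : G) * x.1 * (s : G)⁻¹) * (r : G)⁻¹ by simp [mul_assoc]) }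
  have hcard : Nat.card Ω = Nat.card B := Nat.card_congr
    { toFun := fun x => ⟨a⁻¹ * x.1, x.2.2⟩
      invFun := fun b => ⟨a * b.1, mul_mem ha b.2.1, by simpa using b.2⟩
      left_inv := fun x => Subtype.ext (by simp)
      right_inv := fun b => Subtype.ext (by simp) }
  obtain ⟨x, hx⟩ := hR.nonempty_fixed_point_of_prime_not_dvd_card Ω (hcard ▸
    not_pDvd_of_coprime (Nat.Coprime.coprime_dvd_left (card_dvd_of_le inf_le_left) hA))
  have hxf : x.1 ∈ A ⊓ centralizer (R : Set G) := by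
    refine ⟨x.2.1, mem_centralizer_iff.2 fun r hr => ?_⟩
    have := congrArg Subtype.val (hx ⟨r, hr⟩)
    change r * x.1 * r⁻¹ = x.1 at this
    exact mul_inv_eq_iff_eq_mul.1 this
  rw [hfix, mem_bot] at hxf
  have := x.2.2
  rw [hxf, mul_one] at this
  exact (coreOf p X).inv_mem_iff.1 this.2

end Hyp

/-- A maximal `p'`-subgroup. -/
structure IsMaxK (p : ℕ) (K : Subgroup G) : Prop where
  cop : (Nat.card K).Coprime p
  ne : K ≠ ⊥
  max : ∀ A : Subgroup G, (Nat.card A).Coprime p → K ≤ A → A = K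

theorem exists_maxK {y : G} (hy : (orderOf y).Coprime p) (hy1 : y ≠ 1) :
    ∃ K : Subgroup G, IsMaxK p K ∧ y ∈ K := by
  obtain ⟨K, hK⟩ := Finite.exists_le_maximal (p := fun A : Subgroup G => (Nat.card A).Coprime p)
    (coprime_zpowers hy)
  refine ⟨K, ⟨hK.2.prop, fun hb => hy1 (mem_bot.1 (hb ▸ hK.1 (mem_zpowers y))),
    fun A hA hle => (hK.2.eq_of_le hA hle).symm⟩, hK.1 (mem_zpowers y)⟩

namespace IsMaxK

variable {K : Subgroup G} (hK : IsMaxK p K) (h : Hyp p G)
include hK h

theorem ne_top : K ≠ ⊤ := fun ht => h.not_pPrime (by have := hK.cop; rwa [ht, card_top] at this)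

theorem comm {a b : G} (ha : a ∈ K) (hb : b ∈ K) : a * b = b * a := small_comm h.small hK.cop ha hb

theorem le_centralizer_of_mem {a : G} (ha : a ∈ K) : K ≤ centralizer ({a} : Set G) := fun b hb =>
  mem_centralizer_singleton_iff.2 (hK.comm h hb ha)

omit h in
theorem le_of_normalizer {A : Subgroup G} (hA : (Nat.card A).Coprime p)
    (hAK : A ≤ normalizer (K : Set G)) : A ≤ K := by
  rw [← hK.max _ (card_sup_coprime hK.cop hA hAK) le_sup_left]
  exact le_sup_right

omit h in
theorem core_le {X : Subgroup G} (hKX : K ≤ X) : coreOf p X ≤ K := by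
  have := hK.max _ (card_sup_coprime (coprime_coreOf X) hK.cop
    (hKX.trans (le_normalizer_coreOf X))) le_sup_right
  exact this ▸ le_sup_left

omit h in
theorem conjMap_max (g : G) : IsMaxK p (conjMap g K) := by
  refine ⟨by rw [card_conjMap]; exact hK.cop, fun hb => hK.ne ?_, fun A hA hle => ?_⟩
  · rwa [conjMap, map_eq_bot_iff_of_injective _ (MulAut.conj g).injective] at hb
  · have := hK.max (conjMap g⁻¹ A) (by rwa [card_conjMap])
      (by rw [← Cfsg.Lib.Coprime.conjMap_inv_conjMap g K]; exact Cfsg.Lib.Coprime.conjMap_mono hle)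
    rw [← this, Cfsg.Lib.Coprime.conjMap_conjMap_inv]

omit h in
theorem max_subgroupOf {X : Subgroup G} (hKX : K ≤ X) :
    ∀ A : Subgroup X, (Nat.card A).Coprime p → K.subgroupOf X ≤ A → A = K.subgroupOf X := by
  intro A hA hle
  have h1 := hK.max (A.map X.subtype) (by rwa [card_map_of_injective X.subtype_injective])
    (fun x hx => ⟨⟨x, hKX hx⟩, hle (mem_subgroupOf.2 hx), rfl⟩)
  rw [← h1]
  exact (comap_map_eq_self_of_injective X.subtype_injective A).symm

theorem conj_in {K' X : Subgroup G} (hK' : IsMaxK p K') (hX : X ≠ ⊤) (hKX : K ≤ X)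
    (hK'X : K' ≤ X) : ∃ x ∈ X, conjMap x K = K' := by
  haveI := h.proper X hX
  obtain ⟨x, hx⟩ := conj_of_max (H := X)
    (by rw [Nat.card_congr (subgroupOfEquivOfLe hKX).toEquiv]; exact hK.cop) (hK.max_subgroupOf hKX)
    (by rw [Nat.card_congr (subgroupOfEquivOfLe hK'X).toEquiv]; exact hK'.cop)
    (hK'.max_subgroupOf hK'X)
  refine ⟨x, x.2, ?_⟩
  have := congrArg (Subgroup.map X.subtype) hx
  rw [map_subgroupOf_eq_of_le hK'X, map_map] at this
  rw [this, conjMap]
  nth_rw 1 [← map_subgroupOf_eq_of_le hKX]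
  rw [map_map]
  rfl

theorem relIndex_pow {X : Subgroup G} (hX : X ≠ ⊤) (hKX : K ≤ X) :
    ∃ j, K.relIndex X = p ^ j := by
  haveI := h.proper X hX
  exact index_of_piHall (piHall_of_max
    (by rw [Nat.card_congr (subgroupOfEquivOfLe hKX).toEquiv]; exact hK.cop)
    (hK.max_subgroupOf hKX))

/-- Any Sylow subgroup of a maximal `p'`-subgroup is a Sylow subgroup of `G`. -/
theorem sylow_full {q : ℕ} [hq : Fact q.Prime] (hqd : q ∣ Nat.card K) (S : Sylow q K) :
    ∃ S' : Sylow q G, (S' : Subgroup G) = (S : Subgroup K).map K.subtype := by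
  set Q := (S : Subgroup K).map K.subtype with hQ
  have hQp : IsPGroup q Q := S.isPGroup'.map _
  have hQK : Q ≤ K := map_subtype_le _
  have hQ1 : Q ≠ ⊥ := by
    rw [Ne, hQ, map_eq_bot_iff_of_injective _ K.subtype_injective]
    exact S.ne_bot_of_dvd_card hqd
  have hqp : q ≠ p := by
    rintro rfl
    exact not_pDvd_of_coprime hK.cop hqd
  have hN : normalizer (Q : Set G) ≠ ⊤ :=
    h.normalizer_ne_top hQ1 fun ht => hK.ne_top h (top_le_iff.1 (ht ▸ hQK))
  have hKN : K ≤ normalizer (Q : Set G) := fun k hk =>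
    Cfsg.Lib.Coprime.mem_normalizer_of_conj_mem
      (fun x hx => by rw [hK.comm h hk (hQK hx), mul_inv_cancel_right]; exact hx)
      (fun x hx => by rw [mul_assoc, hK.comm h (hQK hx) hk, inv_mul_cancel_left]; exact hx)
  obtain ⟨j, hj⟩ := hK.relIndex_pow h hN hKN
  have hQi : ¬ q ∣ Q.relIndex (normalizer (Q : Set G)) := by
    rw [← relIndex_mul_relIndex _ _ _ hQK hKN, hj]
    intro hd
    rcases hq.out.dvd_mul.1 hd with hd | hd
    · apply S.not_dvd_index
      rw [relIndex, subgroupOf, hQ, comap_map_eq_self_of_injective K.subtype_injective] at hd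
      exact hd
    · exact hqp ((Nat.prime_dvd_prime_iff_eq hq.out hp.out).1 (hq.out.dvd_of_dvd_pow hd))
  obtain ⟨n, hn⟩ := IsPGroup.iff_card.1 hQp
  by_cases hd : q ^ (n + 1) ∣ Nat.card G
  · refine absurd ?_ hQi
    rw [relIndex, index_eq_card]
    exact Sylow.prime_dvd_card_quotient_normalizer hd hn
  · refine ⟨Sylow.ofCard Q ?_, rfl⟩
    rw [hn]
    congr 1
    refine le_antisymm ?_ (Nat.le_of_lt_succ ?_)
    · exact (hq.out.pow_dvd_iff_le_factorization Nat.card_pos.ne').1 (hn ▸ Q.card_subgroup_dvd_card)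
    · by_contra hlt
      exact hd ((pow_dvd_pow q (not_lt.1 hlt)).trans (Nat.ordProj_dvd _ q))

end IsMaxK

end Cfsg.Lib.SmallExp
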