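/-
The normalizers of the maximal p'-subgroups.
-/
import Cfsg.Agent.SmallExp.Local

namespace Cfsg.Lib.SmallExp

open Subgroup
open Cfsg.Lib.Coprime (conjMap mem_conjMap card_conjMap conjMap_eq_self_iff conjMap_eq_self)
open scoped commutatorElement

universe u

variable {p : ℕ} [hp : Fact p.Prime] {G : Type u} [Group G] [Finite G]

/-- A maximal `p'`-subgroup with a Sylow `p`-subgroup of its normalizer. -/
structure Cls (p : ℕ) (G : Type u) [Group G] where
  K : Subgroup G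
  R : Subgroup G
  maxK : IsMaxK p K
  hR : IsPGroup p R
  hRM : R ≤ normalizer (K : Set G)
  hcard : Nat.card K * Nat.card R = Nat.card ↥(normalizer (K : Set G))

/-- The normalizer of a class. -/
abbrev Cls.M (c : Cls p G) : Subgroup G := normalizer (c.K : Set G)

/-- `w` has a nontrivial fixed point on `K`. -/
def Cls.Bad (c : Cls p G) (w : G) : Prop := ∃ k ∈ c.K, k ≠ 1 ∧ Commute k w

/-- Conjugate class. -/
def Cls.conj (c : Cls p G) (g : G) : Cls p G where
  K := conjMap g c.K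
  R := conjMap g c.R
  maxK := c.maxK.conjMap_max g
  hR := c.hR.map _
  hRM := by
    rw [Cfsg.Lib.Coprime.normalizer_conjMap]
    exact Cfsg.Lib.Coprime.conjMap_mono c.hRM
  hcard := by
    rw [card_conjMap, card_conjMap, Cfsg.Lib.Coprime.normalizer_conjMap, card_conjMap, c.hcard]

theorem Cls.bad_conj (c : Cls p G) (g w : G) :
    (c.conj g).Bad (g * w * g⁻¹) ↔ c.Bad w := by
  constructor
  · rintro ⟨k, hk, hk1, hkw⟩
    refine ⟨g⁻¹ * k * g, mem_conjMap.1 hk, fun h => hk1 ?_, ?_⟩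
    · calc k = g * (g⁻¹ * k * g) * g⁻¹ := by group
        _ = 1 := by rw [h]; group
    · show g⁻¹ * k * g * w = w * (g⁻¹ * k * g)
      calc g⁻¹ * k * g * w = g⁻¹ * (k * (g * w * g⁻¹)) * g := by group
        _ = g⁻¹ * ((g * w * g⁻¹) * k) * g := by rw [hkw.eq]
        _ = _ := by group
  · rintro ⟨k, hk, hk1, hkw⟩
    refine ⟨g * k * g⁻¹, mem_conjMap.2 (by simpa [mul_assoc] using hk), fun h => hk1 ?_, ?_⟩
    · calc k = g⁻¹ * (g * k * g⁻¹) * g := by group
        _ = 1 := by rw [h]; group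
    · show g * k * g⁻¹ * (g * w * g⁻¹) = g * w * g⁻¹ * (g * k * g⁻¹)
      calc g * k * g⁻¹ * (g * w * g⁻¹) = g * (k * w) * g⁻¹ := by group
        _ = g * (w * k) * g⁻¹ := by rw [hkw.eq]
        _ = _ := by group

namespace IsMaxK

variable {K : Subgroup G} (hK : IsMaxK p K) (h : Hyp p G)
include hK h

theorem normalizer_ne_top' : normalizer (K : Set G) ≠ ⊤ :=
  h.normalizer_ne_top hK.ne (hK.ne_top h)

/-- Transfer: `K` has no nontrivial elements central in its normalizer. -/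
theorem central_eq_one {k : G} (hk : k ∈ K) (hc : ∀ m ∈ normalizer (K : Set G), m * k = k * m) :
    k = 1 := by
  classical
  by_contra hk1
  set q := (orderOf k).minFac with hq
  have ho : orderOf k ≠ 1 := fun e => hk1 (orderOf_eq_one_iff.1 e)
  haveI hqf : Fact q.Prime := ⟨Nat.minFac_prime ho⟩
  set x := k ^ (orderOf k / q) with hx
  have hxo : orderOf x = q := orderOf_pow_orderOf_div (orderOf_pos k).ne' (Nat.minFac_dvd _)
  have hxK : x ∈ K := pow_mem hk _
  have hxc : ∀ m ∈ normalizer (K : Set G), m * x = x * m := fun m hm => (Commute.pow_right (hc m hm) _).eq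
  have hx1 : x ≠ 1 := fun e => hqf.out.ne_one (by rw [← hxo, e, orderOf_one])
  have hqK : q ∣ Nat.card K := by
    rw [← hxo, ← Subgroup.orderOf_mk x hxK]; exact orderOf_dvd_natCard _
  have hxq : IsPGroup q (zpowers (⟨x, hxK⟩ : K)) :=
    IsPGroup.of_card (n := 1) (by rw [Nat.card_zpowers, Subgroup.orderOf_mk, hxo, pow_one])
  obtain ⟨S, hS⟩ := hxq.exists_le_sylow
  obtain ⟨S', hS'⟩ := hK.sylow_full h hqK S
  have hS'K : (S' : Subgroup G) ≤ K := hS' ▸ map_subtype_le _
  have hxS : x ∈ (S' : Subgroup G) := hS' ▸ ⟨⟨x, hxK⟩, hS (mem_zpowers _), rfl⟩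
  haveI hScomm : IsMulCommutative (S' : Subgroup G) :=
    ⟨⟨fun a b => Subtype.ext (hK.comm h (hS'K a.2) (hS'K b.2))⟩⟩
  set C := centralizer ((S' : Subgroup G) : Set G) with hC
  have hCtop : C ≠ ⊤ := fun e => h.centralizer_ne_top hx1
    (top_le_iff.1 (e ▸ centralizer_le (Set.singleton_subset_iff.2 hxS)))
  have hKC : K ≤ C := fun b hb => mem_centralizer_iff.2 fun a ha => hK.comm h (hS'K ha) hb
  set N := normalizer ((S' : Subgroup G) : Set G) with hN
  -- x is central in the normalizer of S'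
  have hxN : ∀ n ∈ N, n * x = x * n := by
    intro n hn
    have hnK : conjMap n K ≤ C := by
      intro b hb
      refine mem_centralizer_iff.2 fun a ha => ?_
      have ha' : n⁻¹ * a * n ∈ (S' : Subgroup G) := (mem_normalizer_iff''.1 hn a).1 ha
      have := hK.comm h (hS'K ha') (mem_conjMap.1 hb)
      calc a * b = n * ((n⁻¹ * a * n) * (n⁻¹ * b * n)) * n⁻¹ := by group
        _ = n * ((n⁻¹ * b * n) * (n⁻¹ * a * n)) * n⁻¹ := by rw [this]
        _ = b * a := by group
    obtain ⟨c, hcC, hcn⟩ := (hK.conjMap_max n).conj_in h hK hCtop hnK hKC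
    rw [Cfsg.Lib.Coprime.conjMap_mul, conjMap_eq_self_iff] at hcn
    have h1 := hxc _ hcn
    have hnx : n * x * n⁻¹ ∈ (S' : Subgroup G) := (mem_normalizer_iff.1 hn x).1 hxS
    have h2 : (n * x * n⁻¹) * c = c * (n * x * n⁻¹) := mem_centralizer_iff.1 hcC _ hnx
    have h3 : x * c = c * x := mem_centralizer_iff.1 hcC _ hxS
    have h4 : c * (n * x) = c * (x * n) := by
      calc c * (n * x) = c * n * x := by group
        _ = x * (c * n) := h1
        _ = (x * c) * n := by group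
        _ = (c * x) * n := by rw [h3]
        _ = c * (x * n) := by group
    exact mul_left_cancel h4
  have hxN' : x ∈ N := le_normalizer hxS
  have hxcom : x ∈ ⁅(S' : Subgroup G), N⁆ := by
    show x ∈ ⁅(S' : Subgroup G), normalizer (S' : Set G)⁆
    rw [← Cfsg.Lib.Transfer.focal_eq_commutator_normalizer S' hScomm,
      ← Subgroup.commutator_inf_eq_focalSubgroup, h.commutator_eq_top, top_inf_eq]
    exact hxS
  have hxN'' : (⟨x, hxN'⟩ : N) ∈ commutator N := by
    have h5 : x ∈ ⁅N, N⁆ := commutator_mono le_normalizer le_rfl hxcom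
    rw [← map_subtype_commutator] at h5
    obtain ⟨y, hy, hyx⟩ := h5
    rwa [show (⟨x, hxN'⟩ : N) = y from Subtype.ext hyx.symm]
  haveI : IsMulCommutative ((S'.subtype le_normalizer : Sylow q N) : Subgroup N) :=
    ⟨⟨fun a b => Subtype.ext (Subtype.ext (hK.comm h (hS'K (mem_subgroupOf.1 a.2))
      (hS'K (mem_subgroupOf.1 b.2))))⟩⟩
  have hone := Cfsg.Lib.Transfer.eq_one_of_mem_commutator_of_central
    ((S'.subtype le_normalizer : Sylow q N) : Subgroup N)
    (Sylow.card_coprime_index _) (x := ⟨x, hxN'⟩) (mem_subgroupOf.2 hxS) hxN''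
    (Subgroup.mem_center_iff.2 fun n => Subtype.ext (hxN n n.2))
  exact hx1 (congrArg Subtype.val hone)

/-- A class for every maximal `p'`-subgroup. -/
theorem exists_cls : ∃ c : Cls p G, c.K = K := by
  set M := normalizer (K : Set G) with hM
  obtain ⟨j, hj⟩ := hK.relIndex_pow h (hK.normalizer_ne_top' h) le_normalizer
  have hMc : Nat.card M = Nat.card K * p ^ j := by
    rw [← hj, ← relIndex_bot_left, ← relIndex_bot_left,
      relIndex_mul_relIndex _ _ _ bot_le le_normalizer]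
  obtain ⟨S⟩ : Nonempty (Sylow p M) := inferInstance
  refine ⟨⟨K, (S : Subgroup M).map M.subtype, hK, S.isPGroup'.map _, map_subtype_le _, ?_⟩, rfl⟩
  rw [card_map_of_injective M.subtype_injective, S.card_eq_multiplicity, hMc,
    Nat.factorization_mul Nat.card_pos.ne' (pow_ne_zero _ hp.out.ne_zero), Finsupp.add_apply,
    Nat.factorization_eq_zero_of_not_dvd (not_pDvd_of_coprime hK.cop), hp.out.factorization_pow,
    Finsupp.single_eq_same, zero_add]

end IsMaxK

namespace Cls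

variable (c : Cls p G)

theorem inf_eq_bot : c.K ⊓ c.R = ⊥ := by
  refine (eq_bot_iff_forall _).2 fun x hx => ?_
  exact eq_one_of_both (isPEl_of_mem c.hR hx.2) (coprime_order_of_mem c.maxK.cop hx.1)

theorem decomp {m : G} (hm : m ∈ c.M) : ∃ k ∈ c.K, ∃ r ∈ c.R, m = k * r := by
  let f : c.K × c.R → c.M := fun x => ⟨x.1.1 * x.2.1, mul_mem (le_normalizer x.1.2) (c.hRM x.2.2)⟩
  have hinj : Function.Injective f := by
    rintro ⟨a, b⟩ ⟨a', b'⟩ he
    have he' : a.1 * b.1 = a'.1 * b'.1 := congrArg Subtype.val he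
    have h1 : a'.1⁻¹ * a.1 = b'.1 * b.1⁻¹ := by
      rw [eq_mul_inv_iff_mul_eq, mul_assoc, he', inv_mul_cancel_left]
    have h2 : a'.1⁻¹ * a.1 ∈ c.K ⊓ c.R :=
      ⟨c.K.mul_mem (c.K.inv_mem a'.2) a.2, h1 ▸ c.R.mul_mem b'.2 (c.R.inv_mem b.2)⟩
    rw [c.inf_eq_bot, mem_bot, inv_mul_eq_one] at h2
    exact Prod.ext (Subtype.ext h2.symm) (Subtype.ext (mul_left_cancel (h2 ▸ he' : a.1 * b.1 = a.1 * b'.1)))
  have hbij : Function.Bijective f :=
    (Nat.bijective_iff_injective_and_card f).2 ⟨hinj, by rw [Nat.card_prod]; exact c.hcard⟩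
  obtain ⟨⟨k, r⟩, hkr⟩ := hbij.2 ⟨m, hm⟩
  exact ⟨k, k.2, r, r.2, (congrArg Subtype.val hkr).symm⟩

theorem le_K_of_le_M {A : Subgroup G} (hA : (Nat.card A).Coprime p) (hAM : A ≤ c.M) : A ≤ c.K :=
  c.maxK.le_of_normalizer hA hAM

theorem R_normalizes_K {r k : G} (hr : r ∈ c.R) (hk : k ∈ c.K) : r * k * r⁻¹ ∈ c.K :=
  (mem_normalizer_iff.1 (c.hRM hr) k).1 hk

variable (h : Hyp p G)
include h

theorem fpf : c.K ⊓ centralizer (c.R : Set G) = ⊥ := by
  refine (eq_bot_iff_forall _).2 fun k hk => c.maxK.central_eq_one h hk.1 fun m hm => ?_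
  obtain ⟨a, ha, r, hr, rfl⟩ := c.decomp hm
  rw [mul_assoc, mem_centralizer_iff.1 hk.2 r hr, ← mul_assoc, c.maxK.comm h ha hk.1, mul_assoc]

theorem R_ne_bot : c.R ≠ ⊥ := by
  intro hb
  refine c.maxK.ne (le_bot_iff.1 ?_)
  rw [← c.fpf h]
  refine le_inf le_rfl fun k _ => mem_centralizer_iff.2 fun r hr => ?_
  rw [hb, SetLike.mem_coe, mem_bot] at hr
  rw [hr, one_mul, mul_one]

/-- The normalizer is the only maximal subgroup over `K R₀`. -/
theorem uniq {X R₀ : Subgroup G} (hX : X ≠ ⊤) (hKX : c.K ≤ X) (hR₀ : R₀ ≤ c.R) (hR₀X : R₀ ≤ X)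
    (hfix : c.K ⊓ centralizer (R₀ : Set G) = ⊥) : X ≤ c.M := by
  have h1 := h.le_core hX hKX c.maxK.cop (c.hR.to_le hR₀) hR₀X (hR₀.trans c.hRM) hfix
  have h2 : coreOf p X = c.K := le_antisymm (c.maxK.core_le hKX) h1
  have h3 := le_normalizer_coreOf (p := p) X
  rwa [h2] at h3

theorem mem_R {m : G} (hm : m ∈ c.M) (hn : m ∈ normalizer (c.R : Set G)) : m ∈ c.R := by
  obtain ⟨k, hk, r, hr, rfl⟩ := c.decomp hm
  suffices hk1 : k = 1 by rw [hk1, one_mul]; exact hr
  have hkN : k ∈ normalizer (c.R : Set G) := by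
    have := mul_mem hn (inv_mem (le_normalizer hr : r ∈ normalizer (c.R : Set G)))
    rwa [mul_inv_cancel_right] at this
  rw [← mem_bot, ← c.fpf h]
  refine ⟨hk, mem_centralizer_iff.2 fun s hs => ?_⟩
  have h1 : (k * s * k⁻¹) * s⁻¹ ∈ c.K ⊓ c.R := by
    refine ⟨?_, c.R.mul_mem ((mem_normalizer_iff.1 hkN s).1 hs) (c.R.inv_mem hs)⟩
    rw [show k * s * k⁻¹ * s⁻¹ = k * (s * k⁻¹ * s⁻¹) by group]
    exact mul_mem hk (c.R_normalizes_K hs (inv_mem hk))
  rw [c.inf_eq_bot, mem_bot, mul_inv_eq_one, mul_inv_eq_iff_eq_mul] at h1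
  exact h1.symm

omit h in
theorem bad_iff {w : G} : c.Bad w ↔ c.K ⊓ centralizer ({w} : Set G) ≠ ⊥ := by
  rw [Ne, eq_bot_iff_forall]
  push Not
  exact exists_congr fun k => ⟨fun ⟨a, b, e⟩ => ⟨⟨a, mem_centralizer_singleton_iff.2 e.eq⟩, b⟩,
    fun ⟨⟨a, e⟩, b⟩ => ⟨a, b, mem_centralizer_singleton_iff.1 e⟩⟩

/-- The normalizer of a nontrivial `R₀`-invariant subgroup of `K`. -/
theorem normalizer_le {A R₀ : Subgroup G} (hA : A ≤ c.K) (hA1 : A ≠ ⊥) (hR₀ : R₀ ≤ c.R)
    (hR₀A : R₀ ≤ normalizer (A : Set G)) (hfix : c.K ⊓ centralizer (R₀ : Set G) = ⊥) :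
    normalizer (A : Set G) ≤ c.M := by
  refine c.uniq h (h.normalizer_ne_top hA1 fun ht => c.maxK.ne_top h (top_le_iff.1 (ht ▸ hA)))
    (fun k hk => ?_) hR₀ hR₀A hfix
  exact Cfsg.Lib.Coprime.mem_normalizer_of_conj_mem
    (fun x hx => by rw [c.maxK.comm h hk (hA hx), mul_inv_cancel_right]; exact hx)
    (fun x hx => by rw [mul_assoc, c.maxK.comm h (hA hx) hk, inv_mul_cancel_left]; exact hx)

omit h in
theorem inf_centralizer_normalized (w : G) :
    c.R ⊓ centralizer ({w} : Set G) ≤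
      normalizer ((c.K ⊓ centralizer ({w} : Set G) : Subgroup G) : Set G) := by
  have key : ∀ r ∈ c.R ⊓ centralizer ({w} : Set G), ∀ x ∈ c.K ⊓ centralizer ({w} : Set G),
      r * x * r⁻¹ ∈ c.K ⊓ centralizer ({w} : Set G) := fun r hr x hx =>
    ⟨c.R_normalizes_K hr.1 hx.1, (centralizer ({w} : Set G)).mul_mem ((centralizer ({w} : Set G)).mul_mem hr.2 hx.2) ((centralizer ({w} : Set G)).inv_mem hr.2)⟩
  exact fun r hr => Cfsg.Lib.Coprime.mem_normalizer_of_conj_mem (key r hr)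
    fun x hx => by simpa using key r⁻¹ (inv_mem hr) x hx

/-- The centralizer of a bad element. -/
theorem centralizer_le {w : G} (hw1 : w ≠ 1) (hb : c.Bad w)
    (hfix : c.K ⊓ centralizer ((c.R ⊓ centralizer ({w} : Set G) : Subgroup G) : Set G) = ⊥) :
    centralizer ({w} : Set G) ≤ c.M := by
  set X := centralizer ({w} : Set G) with hXdef
  set A := c.K ⊓ X with hA
  set R₀ := c.R ⊓ X with hR₀
  have hX : X ≠ ⊤ := h.centralizer_ne_top hw1
  have hA1 : A ≠ ⊥ := c.bad_iff.1 hb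
  have hAc : (Nat.card A).Coprime p :=
    Nat.Coprime.coprime_dvd_left (card_dvd_of_le inf_le_left) c.maxK.cop
  have hR₀A : R₀ ≤ normalizer (A : Set G) := c.inf_centralizer_normalized w
  have hfixA : A ⊓ centralizer (R₀ : Set G) = ⊥ := eq_bot_mono (inf_le_inf_right _ inf_le_left) hfix
  have hAO : A ≤ coreOf p X :=
    h.le_core hX inf_le_right hAc (c.hR.to_le inf_le_left) inf_le_right hR₀A hfixA
  have hN := c.normalizer_le h inf_le_left hA1 inf_le_left hR₀A hfix
  have hOA : coreOf p X = A := by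
    refine le_antisymm ?_ hAO
    have h1 : coreOf p X ≤ normalizer (A : Set G) := fun o ho =>
      Cfsg.Lib.Coprime.mem_normalizer_of_conj_mem
        (fun x hx => by
          rw [small_comm h.small (coprime_coreOf X) ho (hAO hx), mul_inv_cancel_right]; exact hx)
        (fun x hx => by
          rw [mul_assoc, small_comm h.small (coprime_coreOf X) (hAO hx) ho, inv_mul_cancel_left]
          exact hx)
    exact le_inf (c.le_K_of_le_M (coprime_coreOf X) (h1.trans hN)) (coreOf_le X)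
  have h3 := le_normalizer_coreOf (p := p) X
  rw [hOA] at h3
  exact h3.trans hN

theorem exists_outside : ∃ g ∈ normalizer (c.R : Set G), g ∉ c.R := by
  obtain ⟨n, hn⟩ := IsPGroup.iff_card.1 c.hR
  by_cases hd : p ^ (n + 1) ∣ Nat.card G
  · by_contra! hno
    have h1 := Sylow.prime_pow_dvd_card_normalizer hd hn
    have h2 := h1.trans (card_dvd_of_le hno)
    rw [hn] at h2
    exact absurd ((Nat.pow_dvd_pow_iff_le_right hp.out.one_lt).1 h2) (by omega)
  · have hn' : n = (Nat.card G).factorization p := by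
      refine le_antisymm ((hp.out.pow_dvd_iff_le_factorization Nat.card_pos.ne').1
        (hn ▸ c.R.card_subgroup_dvd_card)) (not_lt.1 fun hlt => hd ?_)
      exact (pow_dvd_pow p hlt).trans (Nat.ordProj_dvd _ p)
    exact h.normalizer_sylow_ne (Sylow.ofCard c.R (by rw [hn, hn']))

/-- Some central element of `R` acts fixed-point-freely. -/
theorem exists_good : ∃ z ∈ c.R, z ≠ 1 ∧ (∀ r ∈ c.R, r * z = z * r) ∧ ¬ c.Bad z := by
  by_contra! hall
  obtain ⟨g, hg, hgR⟩ := c.exists_outside h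
  haveI : Nontrivial c.R := (nontrivial_iff_ne_bot _).2 (c.R_ne_bot h)
  haveI := c.hR.center_nontrivial
  obtain ⟨⟨⟨z, hz⟩, hzc⟩, hz1⟩ := exists_ne (1 : center c.R)
  have hz1' : z ≠ 1 := fun e => hz1 (Subtype.ext (Subtype.ext e))
  have hzc' : ∀ r ∈ c.R, r * z = z * r := fun r hr =>
    congrArg Subtype.val (Subgroup.mem_center_iff.1 hzc ⟨r, hr⟩)
  have hb : c.Bad z := hall z hz hz1' hzc'
  set c' := c.conj g with hc'
  have hR' : c'.R = c.R := conjMap_eq_self hg
  -- the conjugate sees z as bad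
  have hzg : g⁻¹ * z * g ∈ c.R := (mem_normalizer_iff''.1 hg z).1 hz
  have hb' : c'.Bad z := by
    have := (c.bad_conj g (g⁻¹ * z * g)).2 (hall _ hzg (fun e => hz1' (by
      calc z = g * (g⁻¹ * z * g) * g⁻¹ := by group
        _ = 1 := by rw [e]; group)) fun r hr => by
      have h1 := hzc' (g * r * g⁻¹) ((mem_normalizer_iff.1 hg r).1 hr)
      calc r * (g⁻¹ * z * g) = g⁻¹ * ((g * r * g⁻¹) * z) * g := by group
        _ = g⁻¹ * (z * (g * r * g⁻¹)) * g := by rw [h1]
        _ = _ := by group)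
    rwa [show g * (g⁻¹ * z * g) * g⁻¹ = z by group] at this
  have hRz : ∀ d : Cls p G, d.R = c.R → d.R ⊓ centralizer ({z} : Set G) = d.R := fun d hd =>
    inf_eq_left.2 fun r hr => mem_centralizer_singleton_iff.2 (hzc' r (hd ▸ hr))
  have hC : centralizer ({z} : Set G) ≤ c.M :=
    c.centralizer_le h hz1' hb (by rw [hRz c rfl]; exact c.fpf h)
  have hC' : centralizer ({z} : Set G) ≤ c'.M :=
    c'.centralizer_le h hz1' hb' (by rw [hRz c' hR']; exact c'.fpf h)
  set A := c.K ⊓ centralizer ({z} : Set G) with hA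
  set A' := c'.K ⊓ centralizer ({z} : Set G) with hA'
  have hAA : A = A' := le_antisymm
    (le_inf (c'.le_K_of_le_M (Nat.Coprime.coprime_dvd_left (card_dvd_of_le inf_le_left) c.maxK.cop)
      (inf_le_right.trans hC')) inf_le_right)
    (le_inf (c.le_K_of_le_M (Nat.Coprime.coprime_dvd_left (card_dvd_of_le inf_le_left) c'.maxK.cop)
      (inf_le_right.trans hC)) inf_le_right)
  have hN : normalizer (A : Set G) ≤ c.M :=
    c.normalizer_le h inf_le_left (c.bad_iff.1 hb) le_rfl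
      (fun r hr => c.inf_centralizer_normalized z ((hRz c rfl).symm ▸ hr)) (c.fpf h)
  have hK' : c'.K ≤ normalizer (A : Set G) := fun k hk =>
    Cfsg.Lib.Coprime.mem_normalizer_of_conj_mem
      (fun x hx => by
        rw [c'.maxK.comm h hk ((hAA ▸ hx : x ∈ A').1), mul_inv_cancel_right]; exact hx)
      (fun x hx => by
        rw [mul_assoc, c'.maxK.comm h ((hAA ▸ hx : x ∈ A').1) hk, inv_mul_cancel_left]; exact hx)
  have hKK : c'.K = c.K := (c'.maxK.max _ c.maxK.cop (c.le_K_of_le_M c'.maxK.cop (hK'.trans hN))).symm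
  exact hgR (c.mem_R h (conjMap_eq_self_iff.1 hKK) hg)

theorem centralizer_le' {w : G} (hw : w ∈ c.R) (hw1 : w ≠ 1) (hb : c.Bad w) :
    centralizer ({w} : Set G) ≤ c.M ∧
      c.K ⊓ centralizer ((c.R ⊓ centralizer ({w} : Set G) : Subgroup G) : Set G) = ⊥ := by
  obtain ⟨z, hz, -, hzc, hzb⟩ := c.exists_good h
  have hfix : c.K ⊓ centralizer ((c.R ⊓ centralizer ({w} : Set G) : Subgroup G) : Set G) = ⊥ := by
    refine (eq_bot_iff_forall _).2 fun k hk => by_contra fun hk1 => hzb ⟨k, hk.1, hk1, ?_⟩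
    exact (mem_centralizer_iff.1 hk.2 z ⟨hz, mem_centralizer_singleton_iff.2 (hzc w hw).symm⟩).symm
  exact ⟨c.centralizer_le h hw1 hb hfix, hfix⟩

/-- The bad sets of different conjugates do not meet. -/
theorem eq_of_bad {c' : Cls p G} {w : G} (hw : w ∈ c.R) (hw' : w ∈ c'.R) (hw1 : w ≠ 1)
    (hb : c.Bad w) (hb' : c'.Bad w) : c.K = c'.K := by
  obtain ⟨hC, hfix⟩ := c.centralizer_le' h hw hw1 hb
  obtain ⟨hC', hfix'⟩ := c'.centralizer_le' h hw' hw1 hb'
  set A := c.K ⊓ centralizer ({w} : Set G) with hA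
  set A' := c'.K ⊓ centralizer ({w} : Set G) with hA'
  have hAA : A = A' := le_antisymm
    (le_inf (c'.le_K_of_le_M (Nat.Coprime.coprime_dvd_left (card_dvd_of_le inf_le_left) c.maxK.cop)
      (inf_le_right.trans hC')) inf_le_right)
    (le_inf (c.le_K_of_le_M (Nat.Coprime.coprime_dvd_left (card_dvd_of_le inf_le_left) c'.maxK.cop)
      (inf_le_right.trans hC)) inf_le_right)
  have hN : normalizer (A : Set G) ≤ c.M :=
    c.normalizer_le h inf_le_left (c.bad_iff.1 hb) inf_le_left (c.inf_centralizer_normalized w) hfix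
  have hK' : c'.K ≤ normalizer (A : Set G) := fun k hk =>
    Cfsg.Lib.Coprime.mem_normalizer_of_conj_mem
      (fun x hx => by
        rw [c'.maxK.comm h hk ((hAA ▸ hx : x ∈ A').1), mul_inv_cancel_right]; exact hx)
      (fun x hx => by
        rw [mul_assoc, c'.maxK.comm h ((hAA ▸ hx : x ∈ A').1) hk, inv_mul_cancel_left]; exact hx)
  exact c'.maxK.max _ c.maxK.cop (c.le_K_of_le_M c'.maxK.cop (hK'.trans hN))

end Cls

end Cfsg.Lib.SmallExp
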