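/-
Counting elements by the class of their p'-part.
-/
import Cfsg.Agent.SmallExp.Classes

namespace Cfsg.Lib.SmallExp

open Subgroup
open Cfsg.Lib.Coprime (conjMap mem_conjMap card_conjMap conjMap_eq_self_iff conjMap_eq_self)

universe u

variable {p : ℕ} [hp : Fact p.Prime] {G : Type u} [Group G] [Finite G]

/-- The `p`-elements correspond under a surjection with a `p`-group kernel. -/
theorem card_pEl_surjective {Q : Type u} [Group Q] [Finite Q] {D : Type u} [Group D] [Finite D]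
    (φ : D →* Q) (hφ : Function.Surjective φ) (hk : IsPGroup p φ.ker) :
    Nat.card {a : D // IsPEl p a} = Nat.card φ.ker * Nat.card {q : Q // IsPEl p q} := by
  have hiff : ∀ a : D, IsPEl p (φ a) ↔ IsPEl p a := by
    intro a
    simp only [isPEl_iff]
    constructor
    · rintro ⟨i, hi⟩
      obtain ⟨j, hj⟩ := hk ⟨a ^ p ^ i, by rw [MonoidHom.mem_ker, map_pow, hi]⟩
      exact ⟨i + j, by rw [pow_add, pow_mul]; exact congrArg Subtype.val hj⟩
    · rintro ⟨i, hi⟩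
      exact ⟨i, by rw [← map_pow, hi, map_one]⟩
  rw [← Nat.card_prod]
  exact Nat.card_congr
    { toFun := fun a => (⟨(Function.surjInv hφ (φ a.1))⁻¹ * a.1, by
          rw [MonoidHom.mem_ker, map_mul, map_inv, Function.surjInv_eq hφ, inv_mul_cancel]⟩,
        ⟨φ a.1, (hiff _).2 a.2⟩)
      invFun := fun x => ⟨Function.surjInv hφ x.2.1 * x.1.1, (hiff _).1 (by
        rw [map_mul, Function.surjInv_eq hφ, MonoidHom.mem_ker.1 x.1.2, mul_one]; exact x.2.2)⟩
      left_inv := fun a => Subtype.ext (by simp)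
      right_inv := fun x => by
        have h1 : φ (Function.surjInv hφ x.2.1 * x.1.1) = x.2.1 := by
          rw [map_mul, Function.surjInv_eq hφ, MonoidHom.mem_ker.1 x.1.2, mul_one]
        exact Prod.ext (Subtype.ext (by simp [h1])) (Subtype.ext h1) }

namespace Cls

variable (c : Cls p G)

/-- The elements `x (y a) x⁻¹` with `a` a `p`-element of `C(y)`. -/
def Fib (p : ℕ) {G : Type u} [Group G] (y : G) : Set G :=
  {g | ∃ x a : G, IsPEl p a ∧ Commute a y ∧ g = x * (y * a) * x⁻¹}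

/-- Elements whose `p'`-part is conjugate into `K`. -/
def ASet : Set G := {g | ∃ y ∈ c.K, y ≠ 1 ∧ g ∈ Fib p y}

/-- The `p`-elements of `M` that are trivial or have fixed points on `K`. -/
def SB : Set G := {a | ∃ k ∈ c.K, ∃ w ∈ c.R, (w = 1 ∨ c.Bad w) ∧ a = k * w * k⁻¹}

/-- The conjugates of the bad `p`-elements. -/
def BadSet : Set G := {g | ∃ x a : G, a ∈ c.SB ∧ a ≠ 1 ∧ g = x * a * x⁻¹}

/-- The bad elements of `R`. -/
def BR : Set G := {w | w ∈ c.R ∧ w ≠ 1 ∧ c.Bad w}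

omit hp in
theorem bad_of_conj {r w : G} (hr : r ∈ normalizer (c.K : Set G)) (hb : c.Bad w) :
    c.Bad (r * w * r⁻¹) := by
  obtain ⟨k, hk, hk1, hkw⟩ := hb
  refine ⟨r * k * r⁻¹, (mem_normalizer_iff.1 hr k).1 hk, fun e => hk1 ?_, ?_⟩
  · calc k = r⁻¹ * (r * k * r⁻¹) * r := by group
      _ = 1 := by rw [e]; group
  · show r * k * r⁻¹ * (r * w * r⁻¹) = r * w * r⁻¹ * (r * k * r⁻¹)
    calc r * k * r⁻¹ * (r * w * r⁻¹) = r * (k * w) * r⁻¹ := by group
      _ = r * (w * k) * r⁻¹ := by rw [hkw.eq]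
      _ = _ := by group

theorem SB_conj {m a : G} (hm : m ∈ c.M) (ha : a ∈ c.SB) : m * a * m⁻¹ ∈ c.SB := by
  obtain ⟨k, hk, r, hr, rfl⟩ := c.decomp hm
  obtain ⟨k', hk', w, hw, hwb, rfl⟩ := ha
  refine ⟨k * (r * k' * r⁻¹), mul_mem hk (c.R_normalizes_K hr hk'), r * w * r⁻¹,
    mul_mem (mul_mem hr hw) (inv_mem hr), ?_, by group⟩
  rcases hwb with rfl | hb
  · left; group
  · right; exact c.bad_of_conj (c.hRM hr) hb

theorem SB_le_M {a : G} (ha : a ∈ c.SB) : a ∈ c.M := by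
  obtain ⟨k, hk, w, hw, -, rfl⟩ := ha
  exact mul_mem (mul_mem (le_normalizer hk) (c.hRM hw)) (inv_mem (le_normalizer hk))

variable (h : Hyp p G)
include h

/-- A `p`-element of `M` commuting with a nontrivial element of `K` lies in `SB`. -/
theorem mem_SB {a y : G} (ha : a ∈ c.M) (hap : IsPEl p a) (hy : y ∈ c.K) (hy1 : y ≠ 1)
    (hay : Commute a y) : a ∈ c.SB := by
  obtain ⟨j, hj⟩ := c.maxK.relIndex_pow h (c.maxK.normalizer_ne_top' h) le_normalizer
  set M := c.M with hM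
  have hRc : Nat.card (c.R.subgroupOf M) = p ^ (Nat.card M).factorization p := by
    rw [Nat.card_congr (subgroupOfEquivOfLe c.hRM).toEquiv]
    obtain ⟨n, hn⟩ := IsPGroup.iff_card.1 c.hR
    rw [hn, ← c.hcard, hn, Nat.factorization_mul Nat.card_pos.ne' (pow_ne_zero _ hp.out.ne_zero),
      Finsupp.add_apply, Nat.factorization_eq_zero_of_not_dvd (not_pDvd_of_coprime c.maxK.cop),
      hp.out.factorization_pow, Finsupp.single_eq_same, zero_add]
  have hz : IsPGroup p (zpowers (⟨a, ha⟩ : M)) := (isPEl_subtype (p := p)).2 hap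
  obtain ⟨S, hS⟩ := hz.exists_le_sylow
  obtain ⟨m, hm⟩ := MulAction.exists_smul_eq M (Sylow.ofCard (c.R.subgroupOf M) hRc) S
  have ham : (m : G)⁻¹ * a * m ∈ c.R := by
    have h1 : (⟨a, ha⟩ : M) ∈ (S : Subgroup M) := hS (mem_zpowers _)
    rw [← hm, Sylow.coe_subgroup_smul, Subgroup.mem_pointwise_smul_iff_inv_smul_mem] at h1
    simpa [mem_subgroupOf, mul_assoc] using h1
  obtain ⟨k, hk, r, hr, hkr⟩ := c.decomp m.2
  have hw : k⁻¹ * a * k ∈ c.R := by
    have := mul_mem (mul_mem hr ham) (inv_mem hr)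
    rw [hkr] at this
    simpa [mul_assoc] using this
  refine ⟨k, hk, k⁻¹ * a * k, hw, Or.inr ⟨y, hy, hy1, ?_⟩, by group⟩
  show y * (k⁻¹ * a * k) = k⁻¹ * a * k * y
  have hky : k * y = y * k := c.maxK.comm h hk hy
  have hky' : k⁻¹ * y = y * k⁻¹ := c.maxK.comm h (inv_mem hk) hy
  calc y * (k⁻¹ * a * k) = (y * k⁻¹) * a * k := by group
    _ = (k⁻¹ * y) * a * k := by rw [hky']
    _ = k⁻¹ * (y * a) * k := by group
    _ = k⁻¹ * (a * y) * k := by rw [hay.eq]
    _ = k⁻¹ * a * (y * k) := by group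
    _ = k⁻¹ * a * (k * y) := by rw [hky]
    _ = _ := by group

/-- The basic pair bound. -/
theorem card_pairs :
    Nat.card {x : G × G // x.1 ∈ c.SB ∧ x.2 ∈ c.K ∧ Commute x.1 x.2} ≤
      Nat.card c.K * (Nat.card c.BR + 1) := by
  classical
  have hsurj : ∀ a : c.SB, ∃ k : c.K, ∃ w : Option c.BR,
      (a : G) = k * ((w.map Subtype.val).getD 1) * (k : G)⁻¹ := by
    rintro ⟨_, k, hk, w, hw, hwb, rfl⟩
    by_cases h1 : w = 1
    · exact ⟨⟨k, hk⟩, none, by simp [h1]⟩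
    · exact ⟨⟨k, hk⟩, some ⟨w, hw, h1, hwb.resolve_left h1⟩, by simp⟩
  choose κ ω hκω using hsurj
  let f : {x : G × G // x.1 ∈ c.SB ∧ x.2 ∈ c.K ∧ Commute x.1 x.2} → c.K × Option c.BR :=
    fun x => (κ ⟨x.1.1, x.2.1⟩ * ⟨x.1.2, x.2.2.1⟩, ω ⟨x.1.1, x.2.1⟩)
  have hf : Function.Injective f := by
    intro x x' he
    obtain ⟨⟨a, y⟩, ha, hy, hay⟩ := x
    obtain ⟨⟨a', y'⟩, ha', hy', hay'⟩ := x'
    simp only [f, Prod.mk.injEq] at he
    obtain ⟨he1, he2⟩ := he
    have he1' : (κ ⟨a, ha⟩ : G) * y = κ ⟨a', ha'⟩ * y' := congrArg Subtype.val he1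
    set w := ((ω ⟨a, ha⟩).map Subtype.val).getD 1 with hw
    have e1 : a = κ ⟨a, ha⟩ * w * (κ ⟨a, ha⟩ : G)⁻¹ := hκω ⟨a, ha⟩
    have e2 : a' = κ ⟨a', ha'⟩ * w * (κ ⟨a', ha'⟩ : G)⁻¹ := by
      rw [hw, he2]; exact hκω ⟨a', ha'⟩
    have key : ∀ (k z b : G), k ∈ c.K → z ∈ c.K → Commute b z → b = k * w * k⁻¹ →
        (k * z) * w * (k * z)⁻¹ = b := by
      intro k z b hk hz hbz hb
      have hkz : k * z = z * k := c.maxK.comm h hk hz
      rw [hkz, hb, show z * k * w * (z * k)⁻¹ = z * (k * w * k⁻¹) * z⁻¹ by group, ← hb,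
        ← hbz.eq, mul_inv_cancel_right]
    have haa : a = a' := by
      rw [← key _ y a (κ ⟨a, ha⟩).2 hy hay e1, ← key _ y' a' (κ ⟨a', ha'⟩).2 hy' hay' e2, he1']
    subst haa
    have hyy : y = y' := mul_left_cancel he1'
    subst hyy
    rfl
  calc Nat.card _ ≤ Nat.card (c.K × Option c.BR) := Nat.card_le_card_of_injective f hf
    _ = _ := by rw [Nat.card_prod, Finite.card_option]

/-- In `C(y)` the `p`-elements are distributed as in `C_M(y)`. -/
theorem card_pEl_centralizer {y : G} (hy : y ∈ c.K) (hy1 : y ≠ 1) :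
    Nat.card {a : ↥(centralizer ({y} : Set G)) // IsPEl p a} *
        Nat.card ↥(c.M.subgroupOf (centralizer ({y} : Set G))) =
      Nat.card {a : ↥(c.M.subgroupOf (centralizer ({y} : Set G))) // IsPEl p a} *
        Nat.card ↥(centralizer ({y} : Set G)) := by
  classical
  set C := centralizer ({y} : Set G) with hC
  have hCtop : C ≠ ⊤ := h.centralizer_ne_top hy1
  have hKC : c.K ≤ C := c.maxK.le_centralizer_of_mem h hy
  set V := Cfsg.pCore p ↥C with hV
  set KC := c.K.subgroupOf C with hKCdef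
  set O := Cfsg.pPrimeCore p ↥C with hO
  have hOK : ∀ o ∈ O, (o : G) ∈ c.K := fun o ho => c.maxK.core_le hKC ⟨o, ho, rfl⟩
  obtain ⟨N, hN, hNi, -, hmem⟩ := pc_core (h.pc_proper C hCtop)
  haveI := hN
  -- elements of N centralizing O lie in O V
  set Z := N ⊓ centralizer (O : Set C) with hZdef
  haveI : Z.Normal := normal_inf_normal _ _
  obtain ⟨T⟩ : Nonempty (Sylow p Z) := inferInstance
  set OZ := O.subgroupOf Z with hOZ
  have hgen : OZ ⊔ (T : Subgroup Z) = ⊤ := by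
    rw [← index_eq_one]
    refine Nat.eq_one_of_dvd_coprimes (a := OZ.index) (b := (T : Subgroup Z).index) ?_
      (index_dvd_of_le le_sup_left) (index_dvd_of_le le_sup_right)
    -- every p'-element of Z lies in O
    have hq : IsPGroup p (↥Z ⧸ OZ) := by
      intro q
      induction q using QuotientGroup.induction_on with
      | _ z =>
        obtain ⟨a, b, hae, hbe, hab, ⟨i, hi⟩, hbc⟩ := Cfsg.Lib.Transfer.exists_pPart p z
        refine ⟨i, ?_⟩
        have hb : b ∈ OZ := mem_subgroupOf.2 (hmem _ b.2.1 (by rwa [orderOf_coe]))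
        rw [← hab, QuotientGroup.mk_mul, (QuotientGroup.eq_one_iff b).2 hb, mul_one,
          ← QuotientGroup.mk_pow, ← hi, pow_orderOf_eq_one, QuotientGroup.mk_one]
    obtain ⟨i, hi⟩ := IsPGroup.iff_card.1 hq
    rw [index_eq_card, hi]
    exact Nat.Coprime.pow_left _ (hp.out.coprime_iff_not_dvd.2 T.not_dvd_index)
  haveI hTn : (T : Subgroup Z).Normal := by
    rw [← normalizer_eq_top_iff, eq_top_iff, ← hgen]
    refine sup_le (fun o ho => ?_) le_normalizer
    have hco : ∀ t : Z, o * t = t * o := fun t =>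
      Subtype.ext (mem_centralizer_iff.1 t.2.2 o (mem_subgroupOf.1 ho))
    exact Cfsg.Lib.Coprime.mem_normalizer_of_conj_mem
      (fun x hx => by rw [hco x, mul_inv_cancel_right]; exact hx)
      (fun x hx => by rw [mul_assoc, ← hco x, inv_mul_cancel_left]; exact hx)
  haveI : (T : Subgroup Z).Characteristic := T.characteristic_of_normal hTn
  have hTV : (T : Subgroup Z).map Z.subtype ≤ V :=
    Cfsg.Lib.Components.le_pCore (T.isPGroup'.map _)
  have hZle : Z ≤ KC ⊔ V := by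
    intro z hz
    have h1 : (⟨z, hz⟩ : Z) ∈ OZ ⊔ (T : Subgroup Z) := hgen ▸ mem_top _
    have h2 : z ∈ (OZ ⊔ (T : Subgroup Z)).map Z.subtype := ⟨_, h1, rfl⟩
    rw [Subgroup.map_sup] at h2
    refine sup_le_sup ?_ hTV h2
    rintro _ ⟨o, ho, rfl⟩
    exact mem_subgroupOf.2 (hOK _ (mem_subgroupOf.1 ho))
  -- K V is normal
  haveI hKV : (KC ⊔ V).Normal := by
    obtain ⟨j, hj⟩ := c.maxK.relIndex_pow h hCtop hKC
    obtain ⟨S⟩ : Nonempty (Sylow p C) := inferInstance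
    have htop : KC ⊔ (S : Subgroup C) = ⊤ := by
      rw [← index_eq_one]
      exact Nat.eq_one_of_dvd_coprimes (a := p ^ j) (b := (S : Subgroup C).index)
        (Nat.Coprime.pow_left _ (hp.out.coprime_iff_not_dvd.2 S.not_dvd_index))
        (hj ▸ index_dvd_of_le le_sup_left) (index_dvd_of_le le_sup_right)
    rw [← normalizer_eq_top_iff, eq_top_iff, ← htop]
    refine sup_le (le_sup_left.trans le_normalizer) fun a ha => ?_
    have key : ∀ a : C, IsPEl p a → ∀ k ∈ KC, a * k * a⁻¹ ∈ KC ⊔ V := by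
      intro a hap k hk
      have haN := mem_of_pEl hNi hap
      have he : a * (k * a⁻¹ * k⁻¹) ∈ Z := by
        refine ⟨mul_mem haN (hN.conj_mem _ (inv_mem haN) k), mem_centralizer_iff.2 fun o ho => ?_⟩
        have hn : O.Normal := Cfsg.Lib.Components.pPrimeCore_normal' p
        have ho' : a⁻¹ * o * a ∈ O := by simpa using hn.conj_mem o ho a⁻¹
        have hc1 : k * (a⁻¹ * o * a) = a⁻¹ * o * a * k :=
          Subtype.ext (c.maxK.comm h (mem_subgroupOf.1 hk) (hOK _ ho'))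
        have hc2 : k⁻¹ * o = o * k⁻¹ :=
          Subtype.ext (c.maxK.comm h (inv_mem (mem_subgroupOf.1 hk)) (hOK _ ho))
        calc o * (a * (k * a⁻¹ * k⁻¹)) = a * ((a⁻¹ * o * a) * k) * (a⁻¹ * k⁻¹) := by group
          _ = a * (k * (a⁻¹ * o * a)) * (a⁻¹ * k⁻¹) := by rw [hc1]
          _ = a * k * a⁻¹ * (o * k⁻¹) := by group
          _ = a * k * a⁻¹ * (k⁻¹ * o) := by rw [hc2]
          _ = _ := by group
      rw [show a * k * a⁻¹ = (a * (k * a⁻¹ * k⁻¹)) * k by group]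
      exact mul_mem (hZle he) (mem_sup_left hk)
    have hall : ∀ a : C, IsPEl p a → ∀ x ∈ KC ⊔ V, a * x * a⁻¹ ∈ KC ⊔ V := by
      intro a hap x hx
      have h3 : a * x * a⁻¹ ∈ (KC ⊔ V).map (MulAut.conj a).toMonoidHom := ⟨x, hx, by simp⟩
      refine (?_ : (KC ⊔ V).map (MulAut.conj a).toMonoidHom ≤ KC ⊔ V) h3
      rw [Subgroup.map_sup]
      refine sup_le ?_ ?_
      · rintro _ ⟨k, hk, rfl⟩
        exact key a hap k hk
      · rintro _ ⟨v, hv, rfl⟩
        exact mem_sup_right ((Cfsg.Lib.Components.pCore_normal' (G := ↥C) p).conj_mem v hv a)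
    exact Cfsg.Lib.Coprime.mem_normalizer_of_conj_mem (hall a (isPEl_of_mem S.isPGroup' ha))
      fun x hx => by simpa using hall a⁻¹ (isPEl_of_mem S.isPGroup' (inv_mem ha)) x hx
  -- C = V C_M(y)
  set N0 := c.M.subgroupOf C with hN0
  have hKN0 : KC ≤ N0 := fun x hx => mem_subgroupOf.2 (le_normalizer (mem_subgroupOf.1 hx))
  have hcover : V ⊔ N0 = ⊤ := by
    rw [eq_top_iff]
    intro x _
    set X := (KC ⊔ V).map C.subtype with hX
    have hXC : X ≤ C := map_subtype_le _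
    have hKX : c.K ≤ X := fun k hk => ⟨⟨k, hKC hk⟩, mem_sup_left (mem_subgroupOf.2 hk), rfl⟩
    have hKX' : conjMap (x : G) c.K ≤ X := by
      intro z hz
      obtain ⟨k, hk, rfl⟩ := hz
      exact ⟨x * ⟨k, hKC hk⟩ * x⁻¹, hKV.conj_mem _ (mem_sup_left (mem_subgroupOf.2 hk)) x, by simp⟩
    obtain ⟨_, ⟨v, hv, rfl⟩, hvK⟩ := (c.maxK.conjMap_max (x : G)).conj_in h c.maxK
      (fun e => hCtop (top_le_iff.1 (e ▸ hXC))) hKX' hKX
    rw [Cfsg.Lib.Coprime.conjMap_mul, conjMap_eq_self_iff] at hvK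
    have hvx : v * x ∈ N0 := mem_subgroupOf.2 hvK
    rw [show x = v⁻¹ * (v * x) by group]
    exact mul_mem ((sup_le (hKN0.trans le_sup_right) le_sup_left) (inv_mem hv))
      (mem_sup_right hvx)
  set φ := QuotientGroup.mk' V with hφ
  set ψ := φ.comp N0.subtype with hψ
  have hψs : Function.Surjective ψ := by
    rw [← MonoidHom.range_eq_top, hψ, MonoidHom.range_comp, range_subtype]
    have := congrArg (Subgroup.map φ) hcover
    rwa [Subgroup.map_sup, hφ, QuotientGroup.map_mk'_self, bot_sup_eq,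
      map_top_of_surjective _ (QuotientGroup.mk'_surjective V)] at this
  have hVp : IsPGroup p V := Cfsg.Lib.Components.isPGroup_pCore p
  have hk1 : IsPGroup p φ.ker := by rw [hφ, QuotientGroup.ker_mk']; exact hVp
  have hk2 : IsPGroup p ψ.ker := by
    rw [hψ, ← MonoidHom.comap_ker]
    exact hk1.comap_subtype
  have hc1 : Nat.card φ.ker * Nat.card (↥C ⧸ V) = Nat.card C := by
    rw [← Nat.card_congr (QuotientGroup.quotientKerEquivOfSurjective φ (QuotientGroup.mk'_surjective V)).toEquiv,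
      mul_comm, ← card_eq_card_quotient_mul_card_subgroup]
  have hc2 : Nat.card ψ.ker * Nat.card (↥C ⧸ V) = Nat.card N0 := by
    rw [← Nat.card_congr (QuotientGroup.quotientKerEquivOfSurjective ψ hψs).toEquiv,
      mul_comm, ← card_eq_card_quotient_mul_card_subgroup]
  rw [card_pEl_surjective φ (QuotientGroup.mk'_surjective V) hk1, card_pEl_surjective ψ hψs hk2,
    ← hc2, ← hc1]
  ring

omit h in
theorem card_fib_le (y : G) :
    Nat.card ↥(Fib p y) ≤ (centralizer ({y} : Set G)).index *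
      Nat.card {a : ↥(centralizer ({y} : Set G)) // IsPEl p a} := by
  set C := centralizer ({y} : Set G) with hC
  rw [index_eq_card, ← Nat.card_prod]
  let f : (G ⧸ C) × {a : C // IsPEl p a} → Fib p y := fun x =>
    ⟨x.1.out * (y * ((x.2.1 : C) : G)) * (x.1.out)⁻¹, x.1.out, _, isPEl_subtype.1 x.2.2,
      mem_centralizer_singleton_iff.1 x.2.1.2, rfl⟩
  refine Nat.card_le_card_of_surjective f ?_
  rintro ⟨_, x, a, ha, hay, rfl⟩
  have hd : ((x : G ⧸ C)).out⁻¹ * x ∈ C := QuotientGroup.eq.1 (QuotientGroup.out_eq' (x : G ⧸ C))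
  set o := ((x : G ⧸ C)).out with ho
  have haC : a ∈ C := mem_centralizer_singleton_iff.2 hay.eq
  have hd' : (o⁻¹ * x) * y = y * (o⁻¹ * x) := mem_centralizer_singleton_iff.1 hd
  refine ⟨⟨(x : G ⧸ C), ⟨⟨o⁻¹ * x, hd⟩ * ⟨a, haC⟩ * (⟨o⁻¹ * x, hd⟩ : C)⁻¹, ?_⟩⟩, Subtype.ext ?_⟩
  · obtain ⟨i, hi⟩ := isPEl_iff.1 ha
    exact isPEl_iff.2 ⟨i, Subtype.ext (show ((o⁻¹ * x) * a * (o⁻¹ * x)⁻¹) ^ p ^ i = 1 by
      rw [conj_pow, hi, mul_one, mul_inv_cancel])⟩
  · show o * (y * ((o⁻¹ * x) * a * (o⁻¹ * x)⁻¹)) * o⁻¹ = x * (y * a) * x⁻¹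
    calc o * (y * ((o⁻¹ * x) * a * (o⁻¹ * x)⁻¹)) * o⁻¹
        = o * ((y * (o⁻¹ * x)) * a * (o⁻¹ * x)⁻¹) * o⁻¹ := by group
      _ = o * (((o⁻¹ * x) * y) * a * (o⁻¹ * x)⁻¹) * o⁻¹ := by rw [hd']
      _ = _ := by group

/-- The count of a class. -/
theorem card_class :
    (Nat.card ↥c.ASet + Nat.card ↥c.BadSet) * Nat.card c.R ≤
      Nat.card G * (Nat.card c.BR + 1) := by
  classical
  set Y := {y : G // y ∈ c.K ∧ y ≠ 1}
  set N0 : Y → Subgroup G := fun y => c.M ⊓ centralizer ({y.1} : Set G) with hN0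
  -- double counting
  have h1 : Nat.card ↥c.ASet * Nat.card c.M ≤ Nat.card (Σ y : Y, ↥(Fib p y.1) × ↥(N0 y)) := by
    rw [← Nat.card_prod]
    have hwit : ∀ g : c.ASet, ∃ y : Y, (g : G) ∈ Fib p y.1 := fun g => by
      obtain ⟨y, hy, hy1, hg⟩ := g.2
      exact ⟨⟨y, hy, hy1⟩, hg⟩
    choose y₀ hy₀ using hwit
    have hmv : ∀ (g : c.ASet) (m : c.M), ∃ z : Y, z.1 = m * (y₀ g).1 * (m : G)⁻¹ ∧ (g : G) ∈ Fib p z.1 := by
      intro g m
      refine ⟨⟨m * (y₀ g).1 * (m : G)⁻¹, (mem_normalizer_iff.1 m.2 _).1 (y₀ g).2.1,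
        fun e => (y₀ g).2.2 ?_⟩, rfl, ?_⟩
      · calc (y₀ g).1 = (m : G)⁻¹ * (m * (y₀ g).1 * (m : G)⁻¹) * m := by group
          _ = 1 := by rw [e]; group
      · obtain ⟨x, a, ha, hay, hg⟩ := hy₀ g
        refine ⟨x * (m : G)⁻¹, m * a * (m : G)⁻¹, ?_, ?_, by rw [hg]; group⟩
        · obtain ⟨i, hi⟩ := isPEl_iff.1 ha
          exact isPEl_iff.2 ⟨i, by rw [conj_pow, hi, mul_one, mul_inv_cancel]⟩
        · exact Commute.map hay (MulAut.conj (m : G))
    choose z hz hzF using hmv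
    let t : c.ASet → Y → c.M := fun g y =>
      if he : ∃ m : c.M, z g m = y then he.choose else 1
    have ht : ∀ g m, z g (t g (z g m)) = z g m := by
      intro g m
      have he : ∃ m' : c.M, z g m' = z g m := ⟨m, rfl⟩
      simp only [t, dif_pos he]
      exact he.choose_spec
    let f : c.ASet × c.M → Σ y : Y, ↥(Fib p y.1) × ↥(N0 y) := fun x =>
      ⟨z x.1 x.2, ⟨x.1, hzF x.1 x.2⟩,
        ⟨(x.2 : G) * (t x.1 (z x.1 x.2) : G)⁻¹, c.M.mul_mem x.2.2 (c.M.inv_mem (t x.1 (z x.1 x.2)).2),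
          mem_centralizer_singleton_iff.2 (by
            have e1 := hz x.1 x.2
            have e2 := hz x.1 (t x.1 (z x.1 x.2))
            rw [ht] at e2
            generalize (y₀ x.1).1 = y at e1 e2
            generalize (t x.1 (z x.1 x.2) : G) = s at e2 ⊢
            generalize ((x.2 : G)) = m at e1 ⊢
            generalize (z x.1 x.2).1 = w at e1 e2 ⊢
            calc m * s⁻¹ * w = m * s⁻¹ * (s * y * s⁻¹) := by rw [← e2]
              _ = (m * y * m⁻¹) * (m * s⁻¹) := by group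
              _ = w * (m * s⁻¹) := by rw [← e1])⟩⟩
    refine Nat.card_le_card_of_injective f ?_
    rintro ⟨g, m⟩ ⟨g', m'⟩ he
    have he1 : z g m = z g' m' := congrArg Sigma.fst he
    have hg : (g : G) = g' :=
      congrArg (fun s : Σ y : Y, ↥(Fib p y.1) × ↥(N0 y) => (s.2.1 : G)) he
    have hm : (m : G) * (t g (z g m) : G)⁻¹ = (m' : G) * (t g' (z g' m') : G)⁻¹ :=
      congrArg (fun s : Σ y : Y, ↥(Fib p y.1) × ↥(N0 y) => (s.2.2 : G)) he
    have hg' : g = g' := Subtype.ext hg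
    subst hg'
    rw [← he1] at hm
    exact Prod.ext rfl (Subtype.ext (mul_right_cancel hm))
  -- each fibre
  have h2 : ∀ y : Y, Nat.card (↥(Fib p y.1) × ↥(N0 y)) ≤
      Nat.card G * Nat.card {a : ↥(N0 y) // IsPEl p a} := by
    intro y
    set C := centralizer ({y.1} : Set G) with hC
    have e : Nat.card ↥(N0 y) = Nat.card ↥(c.M.subgroupOf C) := by
      rw [hN0]
      exact (Nat.card_congr (subgroupOfEquivOfLe (inf_le_right : c.M ⊓ C ≤ C)).toEquiv).symm.trans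
        (by rw [inf_subgroupOf_right])
    have e' : Nat.card {a : ↥(N0 y) // IsPEl p a} =
        Nat.card {a : ↥(c.M.subgroupOf C) // IsPEl p a} :=
      Nat.card_congr
        { toFun := fun a => ⟨⟨⟨a.1, a.1.2.2⟩, mem_subgroupOf.2 a.1.2.1⟩,
            by
              obtain ⟨i, hi⟩ := isPEl_iff.1 a.2
              exact isPEl_iff.2 ⟨i, Subtype.ext (Subtype.ext (show (a.1 : G) ^ p ^ i = 1 by
                simpa using congrArg Subtype.val hi))⟩⟩
          invFun := fun a => ⟨⟨a.1.1.1, mem_subgroupOf.1 a.1.2, a.1.1.2⟩,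
            by
              obtain ⟨i, hi⟩ := isPEl_iff.1 a.2
              exact isPEl_iff.2 ⟨i, Subtype.ext (show ((a.1 : ↥(centralizer ({y.1} : Set G))) : G) ^ p ^ i = 1 by
                simpa using congrArg (fun b => ((b : ↥(centralizer ({y.1} : Set G))) : G)) (congrArg Subtype.val hi))⟩⟩
          left_inv := fun a => rfl
          right_inv := fun a => rfl }
    rw [Nat.card_prod, e']
    refine (Nat.mul_le_mul (card_fib_le y.1) e.le).trans (le_of_eq ?_)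
    rw [mul_assoc, c.card_pEl_centralizer h y.2.1 y.2.2, ← mul_assoc,
      mul_comm (C.index), mul_assoc, mul_comm C.index, card_mul_index, mul_comm]
  have h3 : Nat.card (Σ y : Y, ↥(Fib p y.1) × ↥(N0 y)) ≤
      Nat.card G * Nat.card (Σ y : Y, {a : ↥(N0 y) // IsPEl p a}) := by
    haveI := Fintype.ofFinite Y
    rw [Nat.card_sigma, Nat.card_sigma, Finset.mul_sum]
    exact Finset.sum_le_sum fun y _ => h2 y
  -- the bad elements
  have h4 : Nat.card ↥c.BadSet * Nat.card c.M ≤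
      Nat.card G * Nat.card {a : G // a ∈ c.SB ∧ a ≠ 1} := by
    have : Nat.card ↥c.BadSet ≤ c.M.index * Nat.card {a : G // a ∈ c.SB ∧ a ≠ 1} := by
      rw [index_eq_card, ← Nat.card_prod]
      refine Nat.card_le_card_of_surjective (fun x : (G ⧸ c.M) × {a : G // a ∈ c.SB ∧ a ≠ 1} =>
        (⟨x.1.out * x.2.1 * (x.1.out)⁻¹, x.1.out, x.2.1, x.2.2.1, x.2.2.2, rfl⟩ : c.BadSet)) ?_
      rintro ⟨_, x, a, ha, ha1, rfl⟩
      have hd : ((x : G ⧸ c.M)).out⁻¹ * x ∈ c.M := QuotientGroup.eq.1 (QuotientGroup.out_eq' _)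
      set o := ((x : G ⧸ c.M)).out with ho
      refine ⟨⟨(x : G ⧸ c.M), ⟨(o⁻¹ * x) * a * (o⁻¹ * x)⁻¹, c.SB_conj hd ha, fun e => ha1 ?_⟩⟩,
        Subtype.ext ?_⟩
      · calc a = (o⁻¹ * x)⁻¹ * ((o⁻¹ * x) * a * (o⁻¹ * x)⁻¹) * (o⁻¹ * x) := by group
          _ = 1 := by rw [e]; group
      · show o * ((o⁻¹ * x) * a * (o⁻¹ * x)⁻¹) * o⁻¹ = x * a * x⁻¹
        group
    calc Nat.card ↥c.BadSet * Nat.card c.M
        ≤ c.M.index * Nat.card {a : G // a ∈ c.SB ∧ a ≠ 1} * Nat.card c.M :=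
          Nat.mul_le_mul_right _ this
      _ = _ := by rw [mul_comm (c.M.index), mul_assoc, mul_comm c.M.index, card_mul_index, mul_comm]
  -- both lie inside the pairs
  have h5 : Nat.card (Σ y : Y, {a : ↥(N0 y) // IsPEl p a}) +
      Nat.card {a : G // a ∈ c.SB ∧ a ≠ 1} ≤ Nat.card c.K * (Nat.card c.BR + 1) := by
    rw [← Nat.card_sum]
    refine le_trans ?_ (c.card_pairs h)
    let f : (Σ y : Y, {a : ↥(N0 y) // IsPEl p a}) ⊕ {a : G // a ∈ c.SB ∧ a ≠ 1} →
        {x : G × G // x.1 ∈ c.SB ∧ x.2 ∈ c.K ∧ Commute x.1 x.2} := fun x => match x with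
      | .inl s => ⟨((s.2.1 : G), s.1.1),
          c.mem_SB h s.2.1.2.1 (isPEl_subtype.1 s.2.2) s.1.2.1 s.1.2.2
            (mem_centralizer_singleton_iff.1 s.2.1.2.2), s.1.2.1,
          mem_centralizer_singleton_iff.1 s.2.1.2.2⟩
      | .inr a => ⟨(a.1, 1), a.2.1, one_mem _, Commute.one_right _⟩
    refine Nat.card_le_card_of_injective f ?_
    rintro (⟨⟨y, hy⟩, ⟨⟨a, ha⟩, hap⟩⟩ | a) (⟨⟨y', hy'⟩, ⟨⟨a', ha'⟩, hap'⟩⟩ | a') he
    · simp only [f, Subtype.mk.injEq, Prod.mk.injEq] at he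
      obtain ⟨rfl, rfl⟩ := he
      rfl
    · simp only [f, Subtype.mk.injEq, Prod.mk.injEq] at he
      exact absurd he.2 hy.2
    · simp only [f, Subtype.mk.injEq, Prod.mk.injEq] at he
      exact absurd he.2.symm hy'.2
    · simp only [f, Subtype.mk.injEq, Prod.mk.injEq] at he
      exact congrArg Sum.inr (Subtype.ext he.1)
  have h6 : (Nat.card ↥c.ASet + Nat.card ↥c.BadSet) * (Nat.card c.K * Nat.card c.R) ≤
      Nat.card G * (Nat.card c.K * (Nat.card c.BR + 1)) := by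
    rw [c.hcard, add_mul]
    refine (Nat.add_le_add (h1.trans h3) h4).trans ?_
    rw [← mul_add]
    exact Nat.mul_le_mul_left _ h5
  rw [mul_left_comm, mul_left_comm (Nat.card G)] at h6
  exact Nat.le_of_mul_le_mul_left h6 Nat.card_pos

end Cls

variable (h : Hyp p G)
include h

/-- Bad sets of the classes sharing `R` are disjoint under the normalizer of `R`. -/
theorem card_bad_family {ι : Type} [Finite ι] (c : ι → Cls p G) (R : Subgroup G) (hR : ∀ i, (c i).R = R)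
    (hdist : ∀ i j, ∀ g : G, conjMap g (c i).K = (c j).K → i = j) :
    Nat.card (Σ i, (c i).BR) * Nat.card ↥(normalizer (R : Set G)) ≤
      Nat.card R * Nat.card {w : G // w ∈ R ∧ w ≠ 1 ∧
        ∃ i, ∃ n ∈ normalizer (R : Set G), (c i).Bad (n⁻¹ * w * n)} := by
  classical
  set N := normalizer (R : Set G) with hN
  set T := {w : G // w ∈ R ∧ w ≠ 1 ∧ ∃ i, ∃ n ∈ N, (c i).Bad (n⁻¹ * w * n)}
  let F : (Σ i, (c i).BR) × N → T := fun x =>
    ⟨(x.2 : G) * x.1.2.1 * (x.2 : G)⁻¹,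
      (mem_normalizer_iff.1 x.2.2 _).1 (hR x.1.1 ▸ x.1.2.2.1),
      fun e => x.1.2.2.2.1 (by
        calc (x.1.2 : G) = (x.2 : G)⁻¹ * ((x.2 : G) * x.1.2.1 * (x.2 : G)⁻¹) * x.2 := by group
          _ = 1 := by rw [e]; group),
      x.1.1, x.2, x.2.2, by simpa [mul_assoc] using x.1.2.2.2.2⟩
  have hkey : ∀ x x', F x = F x' → x.1.1 = x'.1.1 ∧ (x'.2 : G)⁻¹ * x.2 ∈ R := by
    intro x x' he
    have he' : (x.2 : G) * x.1.2.1 * (x.2 : G)⁻¹ = (x'.2 : G) * x'.1.2.1 * (x'.2 : G)⁻¹ :=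
      congrArg Subtype.val he
    set g := (x'.2 : G)⁻¹ * x.2 with hg
    have hgN : g ∈ N := mul_mem (inv_mem x'.2.2) x.2.2
    have hw : (x'.1.2 : G) = g * x.1.2.1 * g⁻¹ := by
      rw [hg, show (x'.2 : G)⁻¹ * x.2 * x.1.2.1 * ((x'.2 : G)⁻¹ * x.2)⁻¹ =
        (x'.2 : G)⁻¹ * ((x.2 : G) * x.1.2.1 * (x.2 : G)⁻¹) * x'.2 by group, he']
      group
    have hb : ((c x.1.1).conj g).Bad (x'.1.2 : G) := by
      rw [hw, Cls.bad_conj]; exact x.1.2.2.2.2
    have hR' : ((c x.1.1).conj g).R = (c x'.1.1).R := by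
      show conjMap g (c x.1.1).R = _
      rw [hR, hR, conjMap_eq_self hgN]
    have hKK := (c x'.1.1).eq_of_bad h x'.1.2.2.1 (hR'.symm ▸ x'.1.2.2.1) x'.1.2.2.2.1 x'.1.2.2.2.2 hb
    have hi : x.1.1 = x'.1.1 := hdist _ _ g hKK.symm
    refine ⟨hi, ?_⟩
    have hgK : g ∈ (c x'.1.1).M := by
      have e : conjMap g (c x'.1.1).K = (c x'.1.1).K := by
        have := hKK.symm
        rw [← hi] at this ⊢
        exact this
      exact conjMap_eq_self_iff.1 e
    have := (c x'.1.1).mem_R h hgK (by rw [hR]; exact hgN)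
    rwa [hR] at this
  let G0 : T → N := fun w => if he : ∃ x, F x = w then he.choose.2 else 1
  have hG0 : ∀ x, ((G0 (F x) : G))⁻¹ * x.2 ∈ R := by
    intro x
    have he : ∃ x', F x' = F x := ⟨x, rfl⟩
    have := (hkey x he.choose he.choose_spec.symm).2
    simpa only [G0, dif_pos he] using this
  rw [← Nat.card_prod, ← Nat.card_prod]
  refine Nat.card_le_card_of_injective
    (fun x => ((⟨(G0 (F x) : G)⁻¹ * x.2, hG0 x⟩ : R), F x)) ?_
  intro x x' he
  simp only [Prod.mk.injEq, Subtype.mk.injEq] at he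
  obtain ⟨he1, he2⟩ := he
  have hn : x.2 = x'.2 := by
    rw [he2] at he1
    exact Subtype.ext (mul_left_cancel he1)
  obtain ⟨⟨i, w⟩, n⟩ := x
  obtain ⟨⟨i', w'⟩, n'⟩ := x'
  obtain rfl : i = i' := (hkey _ _ he2).1
  obtain rfl : n = n' := hn
  have : (n : G) * w.1 * (n : G)⁻¹ = n * w'.1 * (n : G)⁻¹ := congrArg Subtype.val he2
  obtain rfl : w = w' := Subtype.ext (mul_left_cancel (mul_right_cancel this))
  rfl

end Cfsg.Lib.SmallExp
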