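/-
A finite group whose p'-subgroups are abelian of exponent dividing p - 1 is solvable.
-/
import Cfsg.Agent.SmallExp.Count

namespace Cfsg.Lib.SmallExp

open Subgroup
open Cfsg.Lib.Coprime (conjMap mem_conjMap card_conjMap conjMap_eq_self_iff conjMap_eq_self)

universe u

section
variable {p : ℕ} [hp : Fact p.Prime] {G : Type u} [Group G] [Finite G]

theorem IsMaxK.conj_of_common_prime {K K' : Subgroup G} (h : Hyp p G) (hK : IsMaxK p K)
    (hK' : IsMaxK p K') {q : ℕ} [hq : Fact q.Prime] (hd : q ∣ Nat.card K)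
    (hd' : q ∣ Nat.card K') : ∃ g : G, conjMap g K = K' := by
  obtain ⟨S⟩ : Nonempty (Sylow q K) := inferInstance
  obtain ⟨S'⟩ : Nonempty (Sylow q K') := inferInstance
  obtain ⟨T, hT⟩ := hK.sylow_full h hd S
  obtain ⟨T', hT'⟩ := hK'.sylow_full h hd' S'
  obtain ⟨g, hg⟩ := MulAction.exists_smul_eq G T T'
  have hTK : (T : Subgroup G) ≤ K := hT ▸ map_subtype_le _
  have hT'K : (T' : Subgroup G) ≤ K' := hT' ▸ map_subtype_le _
  have hgT : conjMap g (T : Subgroup G) = (T' : Subgroup G) := by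
    rw [← hg]; rfl
  have hTne : (T' : Subgroup G) ≠ ⊥ := by
    rw [hT', Ne, map_eq_bot_iff_of_injective _ K'.subtype_injective]
    exact S'.ne_bot_of_dvd_card hd'
  obtain ⟨x, hxT, hx1⟩ := (bot_or_exists_ne_one (T' : Subgroup G)).resolve_left hTne
  set C := centralizer ({x} : Set G) with hC
  have h1 : conjMap g K ≤ C := (hK.conjMap_max g).le_centralizer_of_mem h
    (Cfsg.Lib.Coprime.conjMap_mono hTK (hgT.symm ▸ hxT))
  have h2 : K' ≤ C := hK'.le_centralizer_of_mem h (hT'K hxT)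
  obtain ⟨c, -, hc⟩ := (hK.conjMap_max g).conj_in h hK' (h.centralizer_ne_top hx1) h1 h2
  exact ⟨c * g, by rw [← Cfsg.Lib.Coprime.conjMap_mul]; exact hc⟩

theorem IsMaxK.exists_cls_normalized {K : Subgroup G} (h : Hyp p G) (hK : IsMaxK p K)
    (P : Sylow p G) : ∃ c : Cls p G, (∃ g, c.K = conjMap g K) ∧
      (Nat.card c.R = Nat.card (P : Subgroup G) → c.R = (P : Subgroup G)) := by
  obtain ⟨c, hc⟩ := hK.exists_cls h
  by_cases hcard : Nat.card c.R = Nat.card (P : Subgroup G)
  · obtain ⟨g, hg⟩ := MulAction.exists_smul_eq G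
      (Sylow.ofCard c.R (by rw [hcard, P.card_eq_multiplicity])) P
    refine ⟨c.conj g, ⟨g, by show conjMap g c.K = _; rw [hc]⟩, fun _ => ?_⟩
    rw [← hg]; rfl
  · exact ⟨c, ⟨1, by rw [Cfsg.Lib.Coprime.conjMap_one, hc]⟩, fun e => absurd e hcard⟩

theorem two_mul_le_two_pow : ∀ n : ℕ, 2 * n ≤ 2 ^ n
  | 0 => by simp
  | n + 1 => by
    have := two_mul_le_two_pow n
    rcases Nat.eq_zero_or_pos n with rfl | hn
    · simp
    · rw [pow_succ]
      omega

theorem Hyp.false' (h : Hyp p G) : False := by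
  classical
  obtain ⟨P⟩ : Nonempty (Sylow p G) := inferInstance
  set π := (Nat.card G).primeFactors.erase p with hπ
  -- classes indexed by primes
  have hcls : ∀ q : π, ∃ c : Cls p G, (q : ℕ) ∣ Nat.card c.K ∧
      (Nat.card c.R = Nat.card (P : Subgroup G) → c.R = (P : Subgroup G)) := by
    rintro ⟨q, hq⟩
    obtain ⟨hqp, hq'⟩ := Finset.mem_erase.1 hq
    haveI := Fact.mk (Nat.prime_of_mem_primeFactors hq')
    obtain ⟨y, hy⟩ := exists_prime_orderOf_dvd_card' (G := G) q (Nat.dvd_of_mem_primeFactors hq')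
    have hy1 : y ≠ 1 := fun e => (Fact.out : q.Prime).ne_one (by rw [← hy, e, orderOf_one])
    obtain ⟨K, hK, hyK⟩ := exists_maxK (p := p)
      (by rw [hy]; exact (Nat.coprime_primes Fact.out hp.out).2 hqp) hy1
    obtain ⟨c, ⟨g, hg⟩, hc⟩ := hK.exists_cls_normalized h P
    refine ⟨c, ?_, hc⟩
    show q ∣ Nat.card c.K
    rw [hg, card_conjMap, ← hy, ← Subgroup.orderOf_mk y hyK]
    exact orderOf_dvd_natCard _
  choose c hcq hcfull using hcls
  set I := {q : π // (Nat.card (c q).K).minFac = (q : ℕ)} with hI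
  haveI : Fintype I := Fintype.ofFinite I
  have hπp : ∀ q : π, (q : ℕ).Prime ∧ (q : ℕ) ≠ p := fun q =>
    ⟨Nat.prime_of_mem_primeFactors (Finset.mem_of_mem_erase q.2), Finset.ne_of_mem_erase q.2⟩
  have hcover : ∀ K : Subgroup G, IsMaxK p K → ∃ i : I, ∃ g, conjMap g (c i.1).K = K := by
    intro K hK
    have h1 : Nat.card K ≠ 1 := fun e => hK.ne (card_eq_one.1 e)
    set q := (Nat.card K).minFac with hq
    haveI := Fact.mk (Nat.minFac_prime h1)
    have hqd : q ∣ Nat.card K := Nat.minFac_dvd _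
    have hqπ : q ∈ π := by
      refine Finset.mem_erase.2 ⟨fun e => not_pDvd_of_coprime hK.cop (e ▸ hqd), ?_⟩
      exact Nat.mem_primeFactors.2 ⟨Fact.out, hqd.trans K.card_subgroup_dvd_card, Nat.card_pos.ne'⟩
    obtain ⟨g, hg⟩ := (c ⟨q, hqπ⟩).maxK.conj_of_common_prime h hK (hcq ⟨q, hqπ⟩) hqd
    refine ⟨⟨⟨q, hqπ⟩, ?_⟩, g, hg⟩
    show (Nat.card (c ⟨q, hqπ⟩).K).minFac = q
    rw [← card_conjMap g, hg]
  have hdist : ∀ i j : I, ∀ g, conjMap g (c i.1).K = (c j.1).K → i = j := by
    intro i j g e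
    refine Subtype.ext (Subtype.ext ?_)
    rw [← i.2, ← j.2, ← e, card_conjMap]
  set F := {i : I // Nat.card (c i.1).R = Nat.card (P : Subgroup G)} with hF
  haveI : Fintype F := Fintype.ofFinite F
  set NP := normalizer ((P : Subgroup G) : Set G) with hNP
  set T := {w : G // w ∈ (P : Subgroup G) ∧ w ≠ 1 ∧
    ∃ i : F, ∃ n ∈ NP, (c i.1.1).Bad (n⁻¹ * w * n)} with hT
  set Pg := {w : G // w ∈ (P : Subgroup G) ∧
    ¬ (w ≠ 1 ∧ ∃ i : F, ∃ n ∈ NP, (c i.1.1).Bad (n⁻¹ * w * n))} with hPg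
  set Good : Set G := {g | ∃ x w : G, w ∈ (P : Subgroup G) ∧
    ¬ (w ≠ 1 ∧ ∃ i : F, ∃ n ∈ NP, (c i.1.1).Bad (n⁻¹ * w * n)) ∧ g = x * w * x⁻¹} with hGood
  -- the covering
  have hall : ∀ g : G, (∃ i : I, g ∈ (c i.1).ASet) ∨ (∃ i : F, g ∈ (c i.1.1).BadSet) ∨ g ∈ Good := by
    intro g
    obtain ⟨a, b, ha, hb, hab, ⟨k, hk⟩, hbc⟩ := Cfsg.Lib.Transfer.exists_pPart p g
    have hcomm : Commute a b := by
      obtain ⟨i, rfl⟩ := ha
      obtain ⟨j, rfl⟩ := hb
      exact Commute.zpow_zpow (Commute.refl g) i j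
    have hap : IsPEl p a := isPEl_iff.2 ⟨k, by rw [← hk, pow_orderOf_eq_one]⟩
    by_cases hb1 : b = 1
    · have hga : g = a := by rw [← hab, hb1, mul_one]
      obtain ⟨S, hS⟩ := (hga ▸ hap : IsPEl p g).exists_le_sylow
      obtain ⟨x, hx⟩ := MulAction.exists_smul_eq G P S
      have hw : x⁻¹ * g * x ∈ (P : Subgroup G) := by
        have h1 : g ∈ (S : Subgroup G) := hS (mem_zpowers g)
        rw [← hx, Sylow.coe_subgroup_smul, Subgroup.mem_pointwise_smul_iff_inv_smul_mem] at h1
        simpa [mul_assoc] using h1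
      by_cases hbad : x⁻¹ * g * x ≠ 1 ∧ ∃ i : F, ∃ n ∈ NP, (c i.1.1).Bad (n⁻¹ * (x⁻¹ * g * x) * n)
      · obtain ⟨hne, i, n, hn, hbd⟩ := hbad
        refine Or.inr (Or.inl ⟨i, x * n, n⁻¹ * (x⁻¹ * g * x) * n,
          ⟨1, one_mem _, n⁻¹ * (x⁻¹ * g * x) * n, ?_, Or.inr hbd, by group⟩, fun e => hne ?_, by group⟩)
        · rw [hcfull _ i.2]
          exact (mem_normalizer_iff''.1 hn _).1 hw
        · calc x⁻¹ * g * x = n * (n⁻¹ * (x⁻¹ * g * x) * n) * n⁻¹ := by group
            _ = 1 := by rw [e]; group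
      · exact Or.inr (Or.inr ⟨x, x⁻¹ * g * x, hw, hbad, by group⟩)
    · obtain ⟨K, hK, hbK⟩ := exists_maxK hbc hb1
      obtain ⟨i, x, hx⟩ := hcover K hK
      rw [← hx, mem_conjMap] at hbK
      refine Or.inl ⟨i, x⁻¹ * b * x, hbK, fun e => hb1 ?_, x, x⁻¹ * a * x, ?_, ?_, ?_⟩
      · calc b = x * (x⁻¹ * b * x) * x⁻¹ := by group
          _ = 1 := by rw [e]; group
      · refine isPEl_iff.2 ⟨k, ?_⟩
        have := conj_pow (i := p ^ k) (a := x⁻¹) (b := a)
        rw [inv_inv] at this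
        rw [this, ← hk, pow_orderOf_eq_one, mul_one, inv_mul_cancel]
      · show x⁻¹ * a * x * (x⁻¹ * b * x) = x⁻¹ * b * x * (x⁻¹ * a * x)
        calc x⁻¹ * a * x * (x⁻¹ * b * x) = x⁻¹ * (a * b) * x := by group
          _ = x⁻¹ * (b * a) * x := by rw [hcomm.eq]
          _ = _ := by group
      · rw [← hab, hcomm.eq]; group
  have hsum : Nat.card G ≤ (∑ i : I, Nat.card ↥(c i.1).ASet) +
      (∑ i : F, Nat.card ↥(c i.1.1).BadSet) + Nat.card ↥Good := by
    rw [← Nat.card_sigma, ← Nat.card_sigma, ← Nat.card_sum, ← Nat.card_sum]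
    refine Nat.card_le_card_of_surjective (fun x : ((Σ i : I, ↥(c i.1).ASet) ⊕
      (Σ i : F, ↥(c i.1.1).BadSet)) ⊕ ↥Good => match x with
        | .inl (.inl s) => (s.2 : G)
        | .inl (.inr s) => (s.2 : G)
        | .inr s => (s : G)) fun g => ?_
    rcases hall g with ⟨i, hi⟩ | ⟨i, hi⟩ | hg
    · exact ⟨.inl (.inl ⟨i, g, hi⟩), rfl⟩
    · exact ⟨.inl (.inr ⟨i, g, hi⟩), rfl⟩
    · exact ⟨.inr ⟨g, hg⟩, rfl⟩
  -- the Sylow normalizer
  have hNP2 : 2 * Nat.card (P : Subgroup G) ≤ Nat.card NP := by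
    obtain ⟨g, hg, hgP⟩ := h.normalizer_sylow_ne P
    have hlt : (P : Subgroup G) < NP := lt_of_le_of_ne le_normalizer fun e => hgP (e ▸ hg)
    obtain ⟨k, hk⟩ := card_dvd_of_le hlt.le
    rcases k with _ | _ | k
    · rw [mul_zero] at hk; exact absurd hk Nat.card_pos.ne'
    · exact absurd (eq_of_le_of_card_ge hlt.le (by omega)) hlt.ne
    · rw [hk, mul_comm 2]
      exact Nat.mul_le_mul_left _ (by omega)
  have hTPg : Nat.card Pg + Nat.card T = Nat.card (P : Subgroup G) := by
    rw [← Nat.card_sum]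
    refine Nat.card_congr ((Equiv.sumCongr (Equiv.subtypeSubtypeEquivSubtypeInter _ _).symm
      (Equiv.subtypeSubtypeEquivSubtypeInter _ _).symm).trans
      ((Equiv.sumComm _ _).trans (Equiv.sumCompl _)))
  have hfam : Nat.card (Σ i : F, (c i.1.1).BR) * Nat.card NP ≤
      Nat.card (P : Subgroup G) * Nat.card T := by
    exact card_bad_family h (fun i : F => c i.1.1) (P : Subgroup G) (fun i => hcfull _ i.2)
      (fun i j g e => Subtype.ext (hdist i.1 j.1 g e))
  have hgood : Nat.card ↥Good * Nat.card NP ≤ Nat.card G * Nat.card Pg := by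
    have h1 : Nat.card ↥Good ≤ NP.index * Nat.card Pg := by
      rw [index_eq_card, ← Nat.card_prod]
      refine Nat.card_le_card_of_surjective (fun x : (G ⧸ NP) × Pg =>
        (⟨x.1.out * x.2.1 * (x.1.out)⁻¹, x.1.out, x.2.1, x.2.2.1, x.2.2.2, rfl⟩ : Good)) ?_
      rintro ⟨_, x, w, hw, hwg, rfl⟩
      have hd : ((x : G ⧸ NP)).out⁻¹ * x ∈ NP := QuotientGroup.eq.1 (QuotientGroup.out_eq' _)
      set o := ((x : G ⧸ NP)).out with ho
      refine ⟨⟨(x : G ⧸ NP), ⟨(o⁻¹ * x) * w * (o⁻¹ * x)⁻¹, (mem_normalizer_iff.1 hd w).1 hw, ?_⟩⟩,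
        Subtype.ext ?_⟩
      · rintro ⟨hne, i, n, hn, hb⟩
        refine hwg ⟨fun e => hne (by rw [e]; group), i, (o⁻¹ * x)⁻¹ * n, mul_mem (inv_mem hd) hn, ?_⟩
        rwa [show ((o⁻¹ * x)⁻¹ * n)⁻¹ * w * ((o⁻¹ * x)⁻¹ * n) =
          n⁻¹ * (o⁻¹ * x * w * (o⁻¹ * x)⁻¹) * n by group]
      · show o * ((o⁻¹ * x) * w * (o⁻¹ * x)⁻¹) * o⁻¹ = x * w * x⁻¹
        group
    calc Nat.card ↥Good * Nat.card NP ≤ NP.index * Nat.card Pg * Nat.card NP :=
          Nat.mul_le_mul_right _ h1
      _ = _ := by rw [mul_comm NP.index, mul_assoc, mul_comm NP.index, card_mul_index, mul_comm]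
  -- rational bounds
  set g : ℚ := (Nat.card G : ℚ) with hg
  have hg0 : 0 < g := by rw [hg]; exact_mod_cast Nat.card_pos
  set P' : ℚ := (Nat.card (P : Subgroup G) : ℚ) with hP'
  have hP0 : 0 < P' := by rw [hP']; exact_mod_cast Nat.card_pos
  set δ : ℚ := ((p : ℚ) + 1) / (p : ℚ) ^ 2 with hδ
  have hp0 : (0 : ℚ) < p := by exact_mod_cast hp.out.pos
  have hclass : ∀ i : I, ((Nat.card ↥(c i.1).ASet : ℚ) +
      if Nat.card (c i.1).R = Nat.card (P : Subgroup G) then (Nat.card ↥(c i.1).BadSet : ℚ) else 0) / g ≤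
      δ + if Nat.card (c i.1).R = Nat.card (P : Subgroup G) then (Nat.card (c i.1).BR : ℚ) / P' else 0 := by
    intro i
    set d := c i.1 with hd
    have hcl : ((Nat.card ↥d.ASet : ℚ) + Nat.card ↥d.BadSet) * Nat.card d.R ≤
        g * (Nat.card d.BR + 1) := by
      rw [hg]; exact_mod_cast d.card_class h
    obtain ⟨n, hn⟩ := IsPGroup.iff_card.1 d.hR
    have hn1 : 1 ≤ n := by
      rcases n with _ | n
      · exact absurd (card_eq_one.1 (by simpa using hn)) (d.R_ne_bot h)
      · omega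
    have hr0 : (0 : ℚ) < Nat.card d.R := by exact_mod_cast Nat.card_pos
    have hbs : (0 : ℚ) ≤ Nat.card ↥d.BadSet := Nat.cast_nonneg _
    have hrp : (p : ℚ) ≤ Nat.card d.R := by
      rw [hn]; exact_mod_cast Nat.le_self_pow (by omega) p
    by_cases hfull : Nat.card d.R = Nat.card (P : Subgroup G)
    · simp only [hfull, if_true]
      have hrP : (Nat.card d.R : ℚ) = P' := by rw [hP', hfull]
      rw [hrP] at hcl hr0 hrp
      rw [div_le_iff₀ hg0]
      have h1 : 1 / P' ≤ δ := by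
        rw [hδ, div_le_div_iff₀ hP0 (by positivity)]
        nlinarith
      calc (Nat.card ↥d.ASet : ℚ) + Nat.card ↥d.BadSet
          ≤ g * ((Nat.card d.BR : ℚ) + 1) / P' := (le_div_iff₀ hP0).2 hcl
        _ = (1 / P' + (Nat.card d.BR : ℚ) / P') * g := by ring
        _ ≤ _ := by
            refine mul_le_mul_of_nonneg_right ?_ hg0.le
            linarith
    · simp only [hfull, if_false, add_zero]
      -- the normalizer of R grows
      have hdvd : p ^ (n + 1) ∣ Nat.card G := by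
        have hle : n ≤ (Nat.card G).factorization p :=
          (hp.out.pow_dvd_iff_le_factorization Nat.card_pos.ne').1 (hn ▸ d.R.card_subgroup_dvd_card)
        have hne : n ≠ (Nat.card G).factorization p := fun e => hfull (by
          rw [hn, e, P.card_eq_multiplicity])
        exact (pow_dvd_pow p (by omega)).trans (Nat.ordProj_dvd _ p)
      have hNR : p * Nat.card d.R ≤ Nat.card ↥(normalizer (d.R : Set G)) := by
        rw [hn, ← pow_succ']
        exact Nat.le_of_dvd Nat.card_pos (Sylow.prime_pow_dvd_card_normalizer hdvd hn)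
      have hb : p * Nat.card d.BR + 1 ≤ Nat.card d.R := by
        have h1 := card_bad_family h (fun _ : Unit => d) d.R (fun _ => rfl)
          (fun _ _ _ _ => rfl)
        have h2 : Nat.card (Σ _ : Unit, d.BR) = Nat.card d.BR :=
          Nat.card_congr (Equiv.uniqueSigma (fun _ : Unit => ↥d.BR))
        have h3 : Nat.card {w : G // w ∈ d.R ∧ w ≠ 1 ∧
            ∃ _i : Unit, ∃ n ∈ normalizer (d.R : Set G), d.Bad (n⁻¹ * w * n)} + 1 ≤ Nat.card d.R := by
          rw [← Finite.card_option]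
          refine Nat.card_le_card_of_injective (fun o => match o with
            | none => (1 : d.R)
            | some w => ⟨w.1, w.2.1⟩) ?_
          rintro (_ | w) (_ | w') e
          · rfl
          · exact absurd (congrArg Subtype.val e).symm w'.2.2.1
          · exact absurd (congrArg Subtype.val e) w.2.2.1
          · exact congrArg some (Subtype.ext (congrArg (fun r : d.R => (r : G)) e))
        rw [h2] at h1
        have h4 : Nat.card d.BR * (p * Nat.card d.R) ≤ Nat.card d.R * (Nat.card d.R - 1) :=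
          (Nat.mul_le_mul_left _ hNR).trans (h1.trans (Nat.mul_le_mul_left _ (by omega)))
        have h5 : p * Nat.card d.BR ≤ Nat.card d.R - 1 :=
          Nat.le_of_mul_le_mul_left (by linarith) (Nat.card_pos (α := d.R))
        have : 1 ≤ Nat.card d.R := Nat.card_pos
        omega
      have hbq : (p : ℚ) * Nat.card d.BR + 1 ≤ Nat.card d.R := by exact_mod_cast hb
      have hkey : ((Nat.card d.BR : ℚ) + 1) * (p : ℚ) ^ 2 ≤ ((p : ℚ) + 1) * Nat.card d.R := by
        by_cases hn2 : n = 1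
        · have hR : Nat.card d.R = p := by rw [hn, hn2, pow_one]
          rw [hR] at hb ⊢
          have hb0 : Nat.card d.BR = 0 := by
            rcases Nat.eq_zero_or_pos (Nat.card d.BR) with e | e
            · exact e
            · have : p * 1 ≤ p * Nat.card d.BR := Nat.mul_le_mul_left p e
              omega
          rw [hb0]; push_cast; nlinarith
        · have hp2 : (p : ℚ) ^ 2 ≤ Nat.card d.R := by
            rw [hn]; exact_mod_cast Nat.pow_le_pow_right hp.out.pos (by omega : 2 ≤ n)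
          nlinarith
      rw [div_le_iff₀ hg0]
      calc (Nat.card ↥d.ASet : ℚ) ≤ g * ((Nat.card d.BR : ℚ) + 1) / Nat.card d.R := by
            rw [le_div_iff₀ hr0]; nlinarith
        _ ≤ δ * g := by
            rw [div_le_iff₀ hr0, hδ, div_mul_eq_mul_div, div_mul_eq_mul_div, le_div_iff₀ (by positivity)]
            nlinarith
  -- the good elements
  have hgoodq : (Nat.card ↥Good : ℚ) / g + (∑ i : F, (Nat.card (c i.1.1).BR : ℚ) / P') ≤ 1 / 2 := by
    set N' : ℚ := (Nat.card NP : ℚ) with hN'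
    have hN0 : 0 < N' := by rw [hN']; exact_mod_cast Nat.card_pos
    have e1 : (Nat.card ↥Good : ℚ) * N' ≤ g * Nat.card Pg := by rw [hN', hg]; exact_mod_cast hgood
    have e2 : (Nat.card Pg : ℚ) + Nat.card T = P' := by rw [hP']; exact_mod_cast hTPg
    have e3 : (∑ i : F, (Nat.card (c i.1.1).BR : ℚ)) * N' ≤ P' * Nat.card T := by
      rw [hN', hP', ← Nat.cast_sum, ← Nat.card_sigma]
      exact_mod_cast hfam
    have e4 : 2 * P' ≤ N' := by rw [hN', hP']; exact_mod_cast hNP2
    rw [← Finset.sum_div]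
    have a1 : (Nat.card ↥Good : ℚ) / g ≤ Nat.card Pg / N' := by
      rw [div_le_div_iff₀ hg0 hN0]; linarith
    have a2 : (∑ i : F, (Nat.card (c i.1.1).BR : ℚ)) / P' ≤ Nat.card T / N' := by
      rw [div_le_div_iff₀ hP0 hN0]; linarith
    calc _ ≤ (Nat.card Pg : ℚ) / N' + Nat.card T / N' := add_le_add a1 a2
      _ = P' / N' := by rw [← e2]; ring
      _ ≤ 1 / 2 := by rw [div_le_div_iff₀ hN0 two_pos]; linarith
  have hsplit : ∀ f : I → ℚ, (∑ i : F, f i.1) =
      ∑ i : I, if Nat.card (c i.1).R = Nat.card (P : Subgroup G) then f i else 0 := by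
    intro f
    rw [← Finset.sum_filter]
    exact (Finset.sum_subtype _ (by simp) f).symm
  -- the number of classes
  have hI2 : 2 * Fintype.card I ≤ p - 1 := by
    have hp1 : p - 1 ≠ 0 := by have := hp.out.two_le; omega
    have h1 : Fintype.card I ≤ (p - 1).primeFactors.card := by
      rw [← Fintype.card_coe]
      refine Fintype.card_le_of_injective (fun i : I => (⟨(i.1 : ℕ), ?_⟩ : (p - 1).primeFactors))
        fun i j e => Subtype.ext (Subtype.ext (show (i.1 : ℕ) = (j.1 : ℕ) from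
          congrArg (fun x : ↥((p - 1).primeFactors) => (x : ℕ)) e))
      haveI := Fact.mk (hπp i.1).1
      refine Nat.mem_primeFactors.2 ⟨(hπp i.1).1, ?_, hp1⟩
      obtain ⟨y, hy⟩ := exists_prime_orderOf_dvd_card' (G := (c i.1).K) (i.1 : ℕ) (hcq i.1)
      rw [← hy, ← Subgroup.orderOf_coe]
      exact orderOf_dvd_of_pow_eq_one ((h.small _ (c i.1).maxK.cop).2 _ y.2)
    have h2 : 2 ^ (p - 1).primeFactors.card ≤ p - 1 :=
      (Finset.pow_card_le_prod _ _ _ fun q hq => (Nat.prime_of_mem_primeFactors hq).two_le).trans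
        (Nat.le_of_dvd (by omega) (Nat.prod_primeFactors_dvd _))
    have h3 := two_mul_le_two_pow (p - 1).primeFactors.card
    omega
  have hsumq : g ≤ (∑ i : I, (Nat.card ↥(c i.1).ASet : ℚ)) +
      (∑ i : F, (Nat.card ↥(c i.1.1).BadSet : ℚ)) + Nat.card ↥Good := by
    rw [hg]; exact_mod_cast hsum
  have hone : (1 : ℚ) ≤ Fintype.card I * δ + 1 / 2 := by
    have h1 : (1 : ℚ) ≤ (∑ i : I, ((Nat.card ↥(c i.1).ASet : ℚ) +
        if Nat.card (c i.1).R = Nat.card (P : Subgroup G) then (Nat.card ↥(c i.1).BadSet : ℚ) else 0) / g) +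
        (Nat.card ↥Good : ℚ) / g := by
      rw [← Finset.sum_div, ← add_div, le_div_iff₀ hg0, one_mul, Finset.sum_add_distrib,
        ← hsplit (fun i => (Nat.card ↥(c i.1).BadSet : ℚ))]
      exact hsumq
    have h2 := Finset.sum_le_sum (fun i (_ : i ∈ (Finset.univ : Finset I)) => hclass i)
    rw [Finset.sum_add_distrib (f := fun _ : I => δ), Finset.sum_const, Finset.card_univ, nsmul_eq_mul,
      ← hsplit (fun i => (Nat.card (c i.1).BR : ℚ) / P')] at h2
    linarith
  have hc : (2 : ℚ) * Fintype.card I + 1 ≤ p := by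
    have : 2 * Fintype.card I + 1 ≤ p := by have := hp.out.two_le; omega
    exact_mod_cast this
  rw [hδ] at hone
  have hpp : (0 : ℚ) < (p : ℚ) ^ 2 := by positivity
  have h3 : (1 / 2 : ℚ) * (p : ℚ) ^ 2 ≤ Fintype.card I * ((p : ℚ) + 1) := by
    have h4 := (div_le_iff₀ hpp).1 (le_of_eq_of_le rfl (le_refl (Fintype.card I * ((p : ℚ) + 1) / (p : ℚ) ^ 2)))
    have h5 : (1 / 2 : ℚ) ≤ Fintype.card I * ((p : ℚ) + 1) / (p : ℚ) ^ 2 := by
      rw [mul_div_assoc]; linarith
    exact (le_div_iff₀ hpp).1 h5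
  nlinarith

/-- A Sylow `p`-subgroup that is normal forces solvability. -/
theorem solvable_of_normal_sylow (hs : Small p G) (P : Sylow p G) (hn : (P : Subgroup G).Normal) :
    Group.IsSolvable G := by
  obtain ⟨H, hH⟩ := exists_right_complement'_of_coprime (N := (P : Subgroup G)) P.card_coprime_index
  haveI := P.isPGroup'.isNilpotent
  have hHc : (Nat.card H).Coprime p := by
    rw [← hH.symm.index_eq_card]
    exact (hp.out.coprime_iff_not_dvd.2 P.not_dvd_index).symm
  haveI : Group.IsSolvable H :=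
    Group.isSolvable_of_comm fun a b => Subtype.ext (small_comm hs hHc a.2 b.2)
  refine Group.isSolvable_of_ker_le_range (P : Subgroup G).subtype
    ((hH.symm.QuotientMulEquiv).toMonoidHom.comp (QuotientGroup.mk' (P : Subgroup G))) ?_
  intro x hx
  rw [range_subtype]
  rw [MonoidHom.mem_ker, MonoidHom.comp_apply, MulEquiv.coe_toMonoidHom, MulEquiv.map_eq_one_iff] at hx
  exact (QuotientGroup.eq_one_iff x).1 hx

end

theorem solvable_of_small (p : ℕ) [hp : Fact p.Prime] (hp2 : p ≠ 2) :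
    ∀ (n : ℕ) (G : Type u) [Group G] [Finite G], Nat.card G = n → Small p G → Group.IsSolvable G := by
  intro n
  induction n using Nat.strong_induction_on with
  | _ n ih =>
  intro G _ _ hn hs
  classical
  by_contra hns
  have hproper : ∀ X : Subgroup G, X ≠ ⊤ → Group.IsSolvable X := fun X hX =>
    ih _ (hn ▸ lt_of_le_of_ne (Nat.le_of_dvd Nat.card_pos X.card_subgroup_dvd_card)
      (fun e => hX (card_eq_iff_eq_top X |>.1 e))) X rfl (small_subgroup hs X)
  haveI : Nontrivial G := by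
    rcases subsingleton_or_nontrivial G with h | h
    · exact absurd (Group.isSolvable_of_comm fun a b : G => Subsingleton.elim _ _) hns
    · exact h
  refine (Hyp.false' (p := p) (G := G) ⟨hp2, hs, ⟨fun N hN => ?_⟩, hns, hproper⟩)
  by_contra! hN'
  obtain ⟨hN1, hN2⟩ := hN'
  haveI := hN
  haveI := hproper N hN2
  suffices hq : Group.IsSolvable (G ⧸ N) from
    hns ((Group.isSolvable_iff_subgroup_quotient N).2 ⟨inferInstance, hq⟩)
  by_cases hd : p ∣ Nat.card (G ⧸ N)
  · refine ih _ ?_ (G ⧸ N) rfl ?_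
    · rw [← hn, card_eq_card_quotient_mul_card_subgroup N]
      exact lt_mul_of_one_lt_right Nat.card_pos (N.one_lt_card_iff_ne_bot.2 hN1)
    intro H hH
    set X := H.comap (QuotientGroup.mk' N) with hX
    have hXtop : X ≠ ⊤ := fun e => by
      have hHt : H = ⊤ := by
        rw [← map_comap_eq_self_of_surjective (QuotientGroup.mk'_surjective N) H, ← hX, e,
          map_top_of_surjective _ (QuotientGroup.mk'_surjective N)]
      rw [hHt, card_top] at hH
      exact hp.out.coprime_iff_not_dvd.1 hH.symm hd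
    haveI := hproper X hXtop
    obtain ⟨K, hK⟩ := Cfsg.Lib.Coprime.exists_piHall (G := X) {q : ℕ | q ≠ p}
    obtain ⟨j, hj⟩ := index_of_piHall hK
    have hKc : (Nat.card K).Coprime p :=
      (hp.out.coprime_iff_not_dvd.2 fun hd => hK.1 p hp.out hd rfl).symm
    have hKc' : (Nat.card (K.map X.subtype)).Coprime p := by
      rwa [card_map_of_injective X.subtype_injective]
    set f := (QuotientGroup.mk' N).subgroupComap H with hf
    have hfs : Function.Surjective f := by
      rintro ⟨y, hy⟩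
      obtain ⟨x, rfl⟩ := QuotientGroup.mk'_surjective N y
      exact ⟨⟨x, hy⟩, rfl⟩
    have hKtop : K.map f = ⊤ := by
      rw [← index_eq_one]
      refine Nat.eq_one_of_dvd_coprimes (a := Nat.card H) (b := p ^ j)
        (Nat.Coprime.pow_right j hH) (index_dvd_card _) ?_
      exact hj ▸ index_map_dvd (H := K) hfs
    have key : ∀ y : H, ∃ x ∈ K.map X.subtype, (x : G ⧸ N) = (y : G ⧸ N) := by
      intro y
      obtain ⟨x, hx, hxy⟩ : y ∈ K.map f := hKtop ▸ mem_top y
      exact ⟨(x : G), mem_map_of_mem _ hx, by rw [← hxy]; rfl⟩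
    refine ⟨⟨⟨fun a b => ?_⟩⟩, fun y hy => ?_⟩
    · obtain ⟨x, hx, hxa⟩ := key a
      obtain ⟨x', hx', hxb⟩ := key b
      refine Subtype.ext ?_
      show (a : G ⧸ N) * b = b * a
      rw [← hxa, ← hxb, ← QuotientGroup.mk_mul, ← QuotientGroup.mk_mul, small_comm hs hKc' hx hx']
    · obtain ⟨x, hx, hxy⟩ := key ⟨y, hy⟩
      show y ^ (p - 1) = 1
      rw [← show (x : G ⧸ N) = y from hxy, ← QuotientGroup.mk_pow, (hs _ hKc').2 x hx, QuotientGroup.mk_one]
  · obtain ⟨P⟩ : Nonempty (Sylow p G) := inferInstance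
    have hPN : (P : Subgroup G) ≤ N := fun x hx => mem_of_pEl
      (by rw [index_eq_card]; exact (hp.out.coprime_iff_not_dvd.2 hd).symm)
      (isPEl_of_mem P.isPGroup' hx)
    have hF := Sylow.normalizer_sup_eq_top (P.subtype hPN)
    rw [show ((P.subtype hPN : Sylow p N) : Subgroup N) = (P : Subgroup G).subgroupOf N from rfl,
      map_subgroupOf_eq_of_le hPN] at hF
    have hne : normalizer ((P : Subgroup G) : Set G) ≠ ⊤ := fun e =>
      hns (solvable_of_normal_sylow hs P (normalizer_eq_top_iff.1 e))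
    haveI := hproper _ hne
    refine Group.isSolvable_of_surjective
      (f := (QuotientGroup.mk' N).comp (normalizer ((P : Subgroup G) : Set G)).subtype) ?_
    rw [← MonoidHom.range_eq_top, MonoidHom.range_comp, range_subtype]
    have := congrArg (Subgroup.map (QuotientGroup.mk' N)) hF
    rwa [Subgroup.map_sup, QuotientGroup.map_mk'_self, sup_bot_eq,
      map_top_of_surjective _ (QuotientGroup.mk'_surjective N)] at this

theorem solvable_of_small_all {p : ℕ} [hp : Fact p.Prime] {G : Type u} [Group G] [Finite G]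
    (hs : Small p G) : Group.IsSolvable G := by
  by_cases hp2 : p = 2
  · subst hp2
    have h2 : IsPGroup 2 G := by
      have hc : ∀ q : ℕ, q.Prime → q ∣ Nat.card G → q = 2 := by
        intro q hq hd
        by_contra hne
        haveI := Fact.mk hq
        obtain ⟨y, hy⟩ := exists_prime_orderOf_dvd_card' (G := G) q hd
        have := (hs (zpowers y) (by
          rw [Nat.card_zpowers, hy]; exact (Nat.coprime_primes hq Nat.prime_two).2 hne)).2 y (mem_zpowers y)
        rw [show (2 : ℕ) - 1 = 1 from rfl, pow_one] at this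
        rw [this, orderOf_one] at hy
        exact hq.ne_one hy.symm
      exact IsPGroup.of_card (n := (Nat.card G).primeFactorsList.length)
        (Nat.eq_prime_pow_of_unique_prime_dvd Nat.card_pos.ne' fun {d} hd hdd => hc d hd hdd)
    haveI := h2.isNilpotent
    infer_instance
  · exact solvable_of_small p hp2 _ G rfl hs

end Cfsg.Lib.SmallExp
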